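import Groth.Agent.H8Top.Components
import Groth.Agent.FlatMorWeight.UnibranchOpen
import Mathlib.AlgebraicGeometry.Fiber

/-!
# Linking points of a connected fibre inside a quasi-compact open
-/

set_option autoImplicit false
set_option backward.isDefEq.respectTransparency false
set_option linter.style.haveILetI false

universe u

open CategoryTheory AlgebraicGeometry TopologicalSpace

namespace Groth.Agent.EGA43.SectionComp

/-- Points in one connected component of a locally Noetherian space lie in a connected compact set. -/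
theorem exists_compact_preconnected {T : Type u} [TopologicalSpace T] (hT : H8Top.IsLocNoetherian T) {a x : T}
    (hx : x ∈ connectedComponent a) : ∃ C : Set T, IsCompact C ∧ _root_.IsPreconnected C ∧ a ∈ C ∧ x ∈ C := by
  have hloc : ∀ z : T, ∃ N C : Set T, IsOpen N ∧ z ∈ N ∧ N ⊆ C ∧ IsCompact C ∧ _root_.IsPreconnected C := by
    intro z
    obtain ⟨W, hW, hzW, hWN⟩ := hT.exists_open z
    obtain ⟨N, hN, hzN, hsub⟩ := (hT.of_isOpen W).exists_nhd_subset_components ⟨z, hzW⟩
    let C : Set W := ⋃₀ {Z | Z ∈ irreducibleComponents W ∧ (⟨z, hzW⟩ : W) ∈ Z}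
    refine ⟨Subtype.val '' N, Subtype.val '' C, hW.isOpenMap_subtype_val _ hN, ⟨_, hzN, rfl⟩,
      Set.image_mono hsub, (NoetherianSpace.isCompact C).image continuous_subtype_val, ?_⟩
    exact (isPreconnected_sUnion (⟨z, hzW⟩ : W) _ (fun Z hZ => hZ.2)
      fun Z hZ => hZ.1.1.isConnected.isPreconnected).image _ continuous_subtype_val.continuousOn
  let R : Set T := {z | ∃ C, IsCompact C ∧ _root_.IsPreconnected C ∧ a ∈ C ∧ z ∈ C}
  have hop : IsOpen R := isOpen_iff_mem_nhds.2 fun z ⟨C, h1, h2, h3, h4⟩ => by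
    obtain ⟨N, D, hN, hzN, hND, h5, h6⟩ := hloc z
    exact Filter.mem_of_superset (hN.mem_nhds hzN) fun z' hz' =>
      ⟨C ∪ D, h1.union h5, h2.union z h4 (hND hzN) h6, Or.inl h3, Or.inr (hND hz')⟩
  have hcl : IsClosed R := isOpen_compl_iff.1 <| isOpen_iff_mem_nhds.2 fun z hz => by
    obtain ⟨N, D, hN, hzN, hND, h5, h6⟩ := hloc z
    exact Filter.mem_of_superset (hN.mem_nhds hzN) fun z' hz' ⟨C, h1, h2, h3, h4⟩ =>
      hz ⟨C ∪ D, h1.union h5, h2.union z' h4 (hND hz') h6, Or.inl h3, Or.inr (hND hzN)⟩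
  exact IsClopen.connectedComponent_subset (s := R) ⟨hcl, hop⟩
    ⟨{a}, isCompact_singleton, isPreconnected_singleton, rfl, rfl⟩ hx

theorem exists_qc_open_linking {X Y : Scheme.{u}} [IsLocallyNoetherian Y] (f : X ⟶ Y) [LocallyOfFiniteType f]
    {y : Y} {a x : X} (ha : f a = y) (hx : x ∈ connectedComponentIn (f.base ⁻¹' {y}) a) :
    ∃ W : X.Opens, IsCompact (W : Set X) ∧ a ∈ W ∧
      x ∈ connectedComponentIn (f.base ⁻¹' {y} ∩ W) a := by
  classical
  have hrange : ∀ v ∈ connectedComponentIn (f.base ⁻¹' {y}) a, v ∈ Set.range (f.fiberι y) := fun v hv =>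
    (f.range_fiberι y).ge (connectedComponentIn_subset _ _ hv)
  obtain ⟨a', ha'⟩ : a ∈ Set.range (f.fiberι y) := (f.range_fiberι y).ge ha
  obtain ⟨x', hx'⟩ := hrange x hx
  haveI : LocallyOfFiniteType (f.fiberToSpecResidueField y) :=
    inferInstanceAs (LocallyOfFiniteType (Limits.pullback.snd f (Y.fromSpecResidueField y)))
  haveI : IsLocallyNoetherian (f.fiber y) := LocallyOfFiniteType.isLocallyNoetherian (f.fiberToSpecResidueField y)
  have hF : H8Top.IsLocNoetherian ↥(f.fiber y) := fun z => by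
    obtain ⟨W, hW, hzW, -⟩ := exists_isAffineOpen_mem_and_subset (x := z) (U := ⊤) trivial
    haveI := IsLocallyNoetherian.component_noetherian ⟨W, hW⟩
    exact ⟨W, W.isOpen.mem_nhds hzW, noetherianSpace_of_isAffineOpen W hW⟩
  have hmem : x' ∈ connectedComponent a' := by
    have hpre : _root_.IsPreconnected (f.fiberι y ⁻¹' connectedComponentIn (f.base ⁻¹' {y}) a) := by
      rw [← (f.fiberι y).isEmbedding.isInducing.isPreconnected_image,
        Set.image_preimage_eq_of_subset hrange]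
      exact isPreconnected_connectedComponentIn
    refine hpre.subset_connectedComponent ?_ (show f.fiberι y x' ∈ _ by rwa [hx'])
    rw [Set.mem_preimage, ha']
    exact mem_connectedComponentIn ha
  obtain ⟨C, hC, hCp, haC, hxC⟩ := exists_compact_preconnected hF hmem
  have hK := hC.image (f.fiberι y).continuous
  choose W hW hvW _ using fun v : X => exists_isAffineOpen_mem_and_subset (x := v) (U := ⊤) trivial
  obtain ⟨t, ht⟩ := hK.elim_finite_subcover (fun v => (W v : Set X)) (fun v => (W v).isOpen)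
    fun v _ => Set.mem_iUnion.2 ⟨v, hvW v⟩
  have hcoe : ((⨆ v ∈ t, W v : X.Opens) : Set X) = ⋃ v ∈ t, (W v : Set X) := by simp
  refine ⟨⨆ v ∈ t, W v, hcoe ▸ t.finite_toSet.isCompact_biUnion fun v _ => (hW v).isCompact,
    hcoe.ge (ht ⟨a', haC, ha'⟩), ?_⟩
  refine (hCp.image _ (f.fiberι y).continuous.continuousOn).subset_connectedComponentIn ⟨a', haC, ha'⟩ ?_
    ⟨x', hxC, hx'⟩
  intro v hv
  refine ⟨?_, hcoe.ge (ht hv)⟩
  obtain ⟨q, -, rfl⟩ := hv
  exact (f.range_fiberι y).le ⟨q, rfl⟩

end Groth.Agent.EGA43.SectionComp
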