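import Groth.Agent.EGA43.SectionComp.OpenRestrict
import Groth.Agent.EGA43.DvrCrit.OpenFlat
import Groth.Agent.EGA43.FlatDescent.Stage
import Groth.Agent.EGA43.FlatDescent.SchemeOpen
import Groth.Agent.EGA43.Chevalley.Open
import Groth.Agent.FlatMorApprox.Basic
import Groth.Agent.Desc19b.FlatOverBC

/-!
# Flatness spreads from a generisation in the fibre (EGA IV 15.2.3 over a reduced base)
-/

set_option autoImplicit false
set_option backward.isDefEq.respectTransparency false
set_option linter.style.haveILetI false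

universe u

open CategoryTheory CategoryTheory.Limits AlgebraicGeometry IsLocalRing TensorProduct

namespace Groth.Agent.EGA43.SectionComp

open Groth.Agent

theorem flat_specMap_fieldHom {k L : Type u} [Field k] [Field L] (φ : k →+* L) :
    Flat (Spec.map (CommRingCat.ofHom φ)) := by
  letI := φ.toAlgebra
  exact (HasRingHomProperty.Spec_iff (P := @Flat)).2 (RingHom.flat_algebraMap_iff.2 Module.Flat.of_free)

theorem isReduced_stalk_of_flat {W W' : Scheme.{u}} (q : W' ⟶ W) [Flat q] (t : W')
    (h : _root_.IsReduced (W'.presheaf.stalk t)) : _root_.IsReduced (W.presheaf.stalk (q t)) := by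
  letI := (q.stalkMap t).hom.toAlgebra
  haveI : Module.Flat (W.presheaf.stalk (q t)) (W'.presheaf.stalk t) := Flat.stalkMap q t
  haveI : IsLocalHom (algebraMap (W.presheaf.stalk (q t)) (W'.presheaf.stalk t)) :=
    inferInstanceAs (IsLocalHom (q.stalkMap t).hom)
  haveI : Module.FaithfullyFlat (W.presheaf.stalk (q t)) (W'.presheaf.stalk t) :=
    Module.FaithfullyFlat.of_flat_of_isLocalHom
  exact isReduced_of_injective (algebraMap (W.presheaf.stalk (q t)) (W'.presheaf.stalk t))
    (FaithfulSMul.algebraMap_injective _ _)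

/-- Geometric reducedness at a point descends along an extension of the ground field. -/
theorem isGeomReducedAt_of_fieldExt {k L₀ : Type u} [Field k] [Field L₀] [Algebra k L₀] {W : Scheme.{u}}
    (p : W ⟶ Spec (CommRingCat.of k)) (w₀ : ↑(FBase.bc p L₀))
    (h : FBase.IsGeomReducedAt (FBase.bcStr p L₀) w₀) : FBase.IsGeomReducedAt p (FBase.bcπ p L₀ w₀) := by
  intro K _ _ x' hx'
  obtain ⟨t₀, ht₁, ht₂⟩ := Scheme.Pullback.exists_preimage_pullback (f := FBase.bcπ p K) (g := FBase.bcπ p L₀)
    x' w₀ hx'
  let P := pullback (FBase.bcπ p K) (FBase.bcπ p L₀)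
  let j := P.fromSpecResidueField t₀
  let κK := Spec.map (CommRingCat.ofHom (algebraMap k K))
  let κ₀ := Spec.map (CommRingCat.ofHom (algebraMap k L₀))
  let aK : Spec (P.residueField t₀) ⟶ pullback p κK := j ≫ pullback.fst (FBase.bcπ p K) (FBase.bcπ p L₀)
  let a₀ : Spec (P.residueField t₀) ⟶ pullback p κ₀ := j ≫ pullback.snd (FBase.bcπ p K) (FBase.bcπ p L₀)
  have hj : aK ≫ pullback.fst p κK = a₀ ≫ pullback.fst p κ₀ := by
    show (j ≫ _) ≫ FBase.bcπ p K = (j ≫ _) ≫ FBase.bcπ p L₀
    rw [Category.assoc, Category.assoc, pullback.condition]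
  let c : ↥(Spec (P.residueField t₀)) := closedPoint _
  have hcj : j c = t₀ := Scheme.fromSpecResidueField_apply _ _
  have hpK : aK c = x' := (congrArg (pullback.fst (FBase.bcπ p K) (FBase.bcπ p L₀)) hcj).trans ht₁
  have hp₀ : a₀ c = w₀ := (congrArg (pullback.snd (FBase.bcπ p K) (FBase.bcπ p L₀)) hcj).trans ht₂
  clear_value aK a₀
  obtain ⟨uK, huK⟩ := Spec.map_surjective (aK ≫ pullback.snd p κK)
  obtain ⟨u₀, hu₀⟩ := Spec.map_surjective (a₀ ≫ pullback.snd p κ₀)
  letI : Algebra K (P.residueField t₀) := uK.hom.toAlgebra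
  letI : Algebra L₀ (P.residueField t₀) := u₀.hom.toAlgebra
  let κKL := Spec.map (CommRingCat.ofHom (algebraMap K (P.residueField t₀)))
  let κ₀L := Spec.map (CommRingCat.ofHom (algebraMap L₀ (P.residueField t₀)))
  have hK : κKL = aK ≫ pullback.snd p κK := huK
  have h₀ : κ₀L = a₀ ≫ pullback.snd p κ₀ := hu₀
  have hκ : κ₀L ≫ κ₀ = κKL ≫ κK := by
    calc κ₀L ≫ κ₀ = (a₀ ≫ pullback.fst p κ₀) ≫ p := by rw [h₀, Category.assoc, Category.assoc, pullback.condition]
      _ = (aK ≫ pullback.fst p κK) ≫ p := by rw [hj]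
      _ = κKL ≫ κK := by rw [hK, Category.assoc, Category.assoc, pullback.condition]
  let r : pullback (pullback.snd p κ₀) κ₀L ⟶ pullback p κK :=
    ((pullbackLeftPullbackSndIso p κ₀ κ₀L) ≪≫ pullback.congrHom rfl hκ ≪≫
      (pullbackLeftPullbackSndIso p κK κKL).symm).hom ≫ pullback.fst (pullback.snd p κK) κKL
  haveI : Flat κKL := flat_specMap_fieldHom _
  haveI : Flat (pullback.fst (pullback.snd p κK) κKL) := MorphismProperty.pullback_fst _ _ inferInstance
  haveI : Flat r := inferInstanceAs (Flat (_ ≫ _))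
  let s : Spec (P.residueField t₀) ⟶ pullback (pullback.snd p κ₀) κ₀L :=
    pullback.lift a₀ (𝟙 _) (by rw [Category.id_comp]; exact h₀.symm)
  have hs : s ≫ r = aK := by
    apply pullback.hom_ext
    · simp [r, s, hj, pullbackLeftPullbackSndIso_hom_fst, pullback.congrHom_hom,
        pullbackLeftPullbackSndIso_inv_fst, pullback.lift_fst, pullback.lift_fst_assoc]
    · simp [r, s, hK, pullbackLeftPullbackSndIso_inv_fst, pullback.congrHom_hom, pullback.lift_snd,
        pullback.lift_snd_assoc, pullback.condition]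
      exact Category.id_comp _
  have h1 : (FBase.bcπ (FBase.bcStr p L₀) (P.residueField t₀)).base (s c) = w₀ := by
    exact (congrArg (fun φ : Spec (P.residueField t₀) ⟶ pullback p κ₀ => φ c) (pullback.lift_fst _ _ _)).trans hp₀
  have h2 : r (s c) = x' := by
    exact (congrArg (fun φ : Spec (P.residueField t₀) ⟶ pullback p κK => φ c) hs).trans hpK
  have h3 := isReduced_stalk_of_flat r (s c) (h (P.residueField t₀) (s c) h1)
  rwa [h2] at h3

variable {X Y S : Scheme.{u}} (f : X ⟶ Y) (g : S ⟶ Y)

/-- The fibre of a base change, with its structure morphism. -/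
theorem exists_fiber_iso_str {y : Y} (s : S) (h : g s = y) :
    letI : Algebra (IsLocalRing.ResidueField (Y.presheaf.stalk y)) (S.residueField s) := (DvrCrit.resExt g s h).hom.toAlgebra
    ∃ e : (pullback.snd f g).fiber s ≅ FBase.bc (f.fiberToSpecResidueField y) (S.residueField s),
      e.hom ≫ FBase.bcπ (f.fiberToSpecResidueField y) (S.residueField s) ≫ f.fiberι y =
        (pullback.snd f g).fiberι s ≫ pullback.fst f g ∧
      e.hom ≫ FBase.bcStr (f.fiberToSpecResidueField y) (S.residueField s) =
        (pullback.snd f g).fiberToSpecResidueField s := by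
  letI : Algebra (IsLocalRing.ResidueField (Y.presheaf.stalk y)) (S.residueField s) := (DvrCrit.resExt g s h).hom.toAlgebra
  let κ := Spec.map (CommRingCat.ofHom (algebraMap (IsLocalRing.ResidueField (Y.presheaf.stalk y)) (S.residueField s)))
  have hκ : S.fromSpecResidueField s ≫ g = κ ≫ Y.fromSpecResidueField y := (DvrCrit.specMap_resExt g s h).symm
  let e : pullback (pullback.snd f g) (S.fromSpecResidueField s) ≅
      pullback (pullback.snd f (Y.fromSpecResidueField y)) κ :=
    pullbackLeftPullbackSndIso f g (S.fromSpecResidueField s) ≪≫ pullback.congrHom rfl hκ ≪≫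
      (pullbackLeftPullbackSndIso f (Y.fromSpecResidueField y) κ).symm
  refine ⟨e, ?_, ?_⟩
  · show e.hom ≫ pullback.fst (pullback.snd f (Y.fromSpecResidueField y)) κ ≫
        pullback.fst f (Y.fromSpecResidueField y) =
      pullback.fst (pullback.snd f g) (S.fromSpecResidueField s) ≫ pullback.fst f g
    simp [e, pullbackLeftPullbackSndIso_inv_fst, pullback.congrHom_hom, pullback.lift_fst]
  · show e.hom ≫ pullback.snd (pullback.snd f (Y.fromSpecResidueField y)) κ =
      pullback.snd (pullback.snd f g) (S.fromSpecResidueField s)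
    simp [e, pullback.congrHom_hom, pullback.lift_snd]

theorem isGeomReducedAt_congr {X Y : Scheme.{u}} {f f' : X ⟶ Y} (h : f = f') (x : X)
    (hr : FBase.IsGeomReducedAt (f.fiberToSpecResidueField (f x)) (f.asFiber x)) :
    FBase.IsGeomReducedAt (f'.fiberToSpecResidueField (f' x)) (f'.asFiber x) := by
  subst h
  exact hr

theorem reduced_ringEquiv : ∀ (R R' : Type u) [CommRing R] [CommRing R'],
    R ≃+* R' → _root_.IsReduced R → _root_.IsReduced R' :=
  fun _ _ _ _ e h => @isReduced_of_injective _ _ _ _ _ _ _ e.symm e.symm.injective h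

/-- Geometric reducedness of the fibre descends from a base change. -/
theorem isGeomReducedAt_of_baseChange (w : ↑(pullback f g)) {x : X} (hx : pullback.fst f g w = x)
    (h : FBase.IsGeomReducedAt ((pullback.snd f g).fiberToSpecResidueField (pullback.snd f g w))
      ((pullback.snd f g).asFiber w)) :
    FBase.IsGeomReducedAt (f.fiberToSpecResidueField (f x)) (f.asFiber x) := by
  have hg : g (pullback.snd f g w) = f x := by
    rw [← hx, ← Scheme.Hom.comp_apply, ← Scheme.Hom.comp_apply, pullback.condition]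
  letI : Algebra (IsLocalRing.ResidueField (Y.presheaf.stalk (f x))) (S.residueField (pullback.snd f g w)) :=
    (DvrCrit.resExt g _ hg).hom.toAlgebra
  obtain ⟨e, he, hes⟩ := exists_fiber_iso_str f g (pullback.snd f g w) hg
  let w₀ := e.hom ((pullback.snd f g).asFiber w)
  have h0 : FBase.IsGeomReducedAt (FBase.bcStr (f.fiberToSpecResidueField (f x)) (S.residueField (pullback.snd f g w))) w₀ := by
    refine geomAt_of_openImmersion (Pr := fun R _ => _root_.IsReduced R) reduced_ringEquiv e.inv
      ((pullback.snd f g).fiberToSpecResidueField (pullback.snd f g w)) _ ?_ w₀ ?_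
    · rw [← hes, Iso.inv_hom_id_assoc]
    · show PtIntegral.GeomAt _ _ (e.inv (e.hom _))
      rw [← Scheme.Hom.comp_apply, e.hom_inv_id]
      exact h
  have h1 := isGeomReducedAt_of_fieldExt (f.fiberToSpecResidueField (f x)) w₀ h0
  rwa [show FBase.bcπ (f.fiberToSpecResidueField (f x)) (S.residueField (pullback.snd f g w)) w₀ = f.asFiber x from by
    apply (f.fiberι (f x)).isEmbedding.injective
    refine (congrArg (fun φ : (pullback.snd f g).fiber (pullback.snd f g w) ⟶ X => φ ((pullback.snd f g).asFiber w)) he).trans ?_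
    refine (congrArg (pullback.fst f g) (Scheme.Hom.fiberι_asFiber _ _)).trans ?_
    exact hx.trans (f.fiberι_asFiber x).symm] at h1

theorem isGeomReducedAt_of_isPullback {X' : Scheme.{u}} {a : X' ⟶ X} {f' : X' ⟶ S} (sq : IsPullback a f' f g) (w : X')
    (h : FBase.IsGeomReducedAt (f'.fiberToSpecResidueField (f' w)) (f'.asFiber w)) :
    FBase.IsGeomReducedAt (f.fiberToSpecResidueField (f (a w))) (f.asFiber (a w)) := by
  let e := sq.isoPullback
  have he : e.inv (e.hom w) = w := congrArg (fun φ : X' ⟶ X' => φ w) e.hom_inv_id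
  refine isGeomReducedAt_of_baseChange f g (e.hom w)
    (congrArg (fun φ : X' ⟶ X => φ w) sq.isoPullback_hom_fst) ?_
  refine isGeomReducedAt_congr sq.isoPullback_inv_snd (e.hom w) ?_
  refine geomAt_fiber_openImmersion (Pr := fun R _ => _root_.IsReduced R) reduced_ringEquiv e.inv f' (e.hom w) ?_
  rw [he]
  exact h

/-- Generisations in the fibre lift along base change. -/
theorem exists_lift_generization {X' : Scheme.{u}} {a : X' ⟶ X} {f' : X' ⟶ S} (sq : IsPullback a f' f g) (w : X')
    {t : X} (htw : t ⤳ a w) (ht : f t = f (a w)) : ∃ t', t' ⤳ w ∧ f' t' = f' w ∧ a t' = t := by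
  let e := sq.isoPullback
  let v := e.hom w
  have hv : pullback.fst f g v = a w := congrArg (fun φ : X' ⟶ X => φ w) sq.isoPullback_hom_fst
  have hg : g (pullback.snd f g v) = f (a w) := by
    rw [← hv]
    exact (congrArg (fun φ : pullback f g ⟶ Y => φ v) pullback.condition).symm
  letI : Algebra (IsLocalRing.ResidueField (Y.presheaf.stalk (f (a w)))) (S.residueField (pullback.snd f g v)) :=
    (DvrCrit.resExt g _ hg).hom.toAlgebra
  obtain ⟨e', he', -⟩ := exists_fiber_iso_str f g (pullback.snd f g v) hg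
  haveI : Flat (Spec.map (CommRingCat.ofHom (algebraMap (IsLocalRing.ResidueField (Y.presheaf.stalk (f (a w))))
      (S.residueField (pullback.snd f g v))))) := flat_specMap_fieldHom _
  haveI : Flat (FBase.bcπ (f.fiberToSpecResidueField (f (a w))) (S.residueField (pullback.snd f g v))) :=
    inferInstanceAs (Flat (pullback.fst _ _))
  let π := e'.hom ≫ FBase.bcπ (f.fiberToSpecResidueField (f (a w))) (S.residueField (pullback.snd f g v))
  have hπ : ∀ b, f.fiberι (f (a w)) (π b) = pullback.fst f g ((pullback.snd f g).fiberι _ b) := fun b => by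
    rw [← Scheme.Hom.comp_apply, Category.assoc, he', Scheme.Hom.comp_apply]
  obtain ⟨t₀, rfl⟩ : t ∈ Set.range (f.fiberι (f (a w))) := by rw [f.range_fiberι]; exact ht
  have h1 : π ((pullback.snd f g).asFiber v) = f.asFiber (a w) := by
    apply (f.fiberι (f (a w))).isEmbedding.injective
    rw [hπ, f.fiberι_asFiber, Scheme.Hom.fiberι_asFiber, hv]
  have h2 : t₀ ⤳ f.asFiber (a w) := (f.fiberι (f (a w))).isEmbedding.isInducing.specializes_iff.1
    (by rw [f.fiberι_asFiber]; exact htw)
  obtain ⟨b, hb, rfl⟩ := Flat.generalizingMap π (h1 ▸ h2)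
  let t' := (pullback.snd f g).fiberι (pullback.snd f g v) b
  have hbv : t' ⤳ v := by
    have := hb.map ((pullback.snd f g).fiberι (pullback.snd f g v)).continuous
    rwa [Scheme.Hom.fiberι_asFiber] at this
  refine ⟨e.inv t', ?_, ?_, ?_⟩
  · have := hbv.map e.inv.continuous
    rwa [show e.inv v = w from congrArg (fun φ : X' ⟶ X' => φ w) e.hom_inv_id] at this
  · refine (congrArg (fun φ : pullback f g ⟶ S => φ t') sq.isoPullback_inv_snd).trans ?_
    refine ((pullback.snd f g).range_fiberι _).le ⟨b, rfl⟩ |>.trans ?_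
    exact congrArg (fun φ : X' ⟶ S => φ w) sq.isoPullback_hom_snd
  · exact (congrArg (fun φ : pullback f g ⟶ X => φ t') sq.isoPullback_inv_fst).trans (hπ b).symm

theorem flat_localized_congr {A T M N : Type u} [CommRing A] [CommRing T] [Algebra A T] (T' : Submonoid T)
    [AddCommGroup M] [AddCommGroup N] {iM : Module T M} {iN : Module T N} [Module A M] [Module A N]
    [IsScalarTower A T M] [IsScalarTower A T N] (e : M ≃ₗ[T] N) :
    Module.Flat A (LocalizedModule T' M) ↔ Module.Flat A (LocalizedModule T' N) :=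
  Module.Flat.equiv_iff ((IsLocalizedModule.mapEquiv T' (LocalizedModule.mkLinearMap T' M)
    (LocalizedModule.mkLinearMap T' N) (Localization T') e).restrictScalars A)

open FlatDescent in
theorem exists_stage_flat_stalk {R P A : Type u} [CommRing R] [IsNoetherianRing R] [CommRing P] [Algebra R P]
    [Algebra.FiniteType R P] [CommRing A] [Algebra R A] (q : PrimeSpectrum (A ⊗[R] P))
    (h : ((Spec.map (CommRingCat.ofHom (algebraMap A (A ⊗[R] P)))).stalkMap q).hom.Flat) :
    ∃ C : Subalgebra R A, C.FG ∧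
      ((Spec.map (CommRingCat.ofHom (algebraMap C (C ⊗[R] P)))).stalkMap
        (PrimeSpectrum.comap (Algebra.TensorProduct.map C.val (AlgHom.id R P)).toRingHom q)).hom.Flat := by
  have key : ∀ (B : Type u) [CommRing B] [Algebra R B] (p : PrimeSpectrum (B ⊗[R] P)),
      ((Spec.map (CommRingCat.ofHom (algebraMap B (B ⊗[R] P)))).stalkMap p).hom.Flat ↔
        FlatAt R P P B p.asIdeal := by
    intro B _ _ p
    refine (RingHom.Flat.respectsIso.arrow_mk_iso_iff (Scheme.arrowStalkMapSpecIso (CommRingCat.ofHom (algebraMap B (B ⊗[R] P))) p)).trans ?_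
    refine (flat_localRingHom_iff (R := B) (S := B ⊗[R] P) _ p.asIdeal rfl).trans ?_
    have hmul : ∀ t x : B ⊗[R] P, (bcModule R P P B).toSMul.smul t x = t * x := by
      intro t x
      induction t using TensorProduct.induction_on with
      | zero => rw [zero_mul]; exact Module.zero_smul (self := bcModule R P P B) x
      | add a b ha hb => rw [add_mul, ← ha, ← hb]; exact Module.add_smul (self := bcModule R P P B) a b x
      | tmul a c =>
        induction x using TensorProduct.induction_on with
        | zero => rw [mul_zero]; exact DistribMulAction.smul_zero (self := (bcModule R P P B).toDistribMulAction) _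
        | add u v hu hv =>
          rw [mul_add, ← hu, ← hv]
          exact DistribMulAction.smul_add (self := (bcModule R P P B).toDistribMulAction) _ u v
        | tmul c' m => exact (bc_smul_tmul a c' c m).trans (Algebra.TensorProduct.tmul_mul_tmul a c' c m).symm
    let l := @LinearMap.mk (B ⊗[R] P) (B ⊗[R] P) _ _ (RingHom.id _) (B ⊗[R] P) (B ⊗[R] P)
      _ _ (bcModule R P P B) Semiring.toModule ⟨id, fun _ _ => rfl⟩ (fun t x => hmul t x)
    let e := @LinearEquiv.mk (B ⊗[R] P) (B ⊗[R] P) _ _ (RingHom.id _) (RingHom.id _) _ _ (B ⊗[R] P) (B ⊗[R] P)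
      _ _ (bcModule R P P B) Semiring.toModule l id (fun _ => rfl) (fun _ => rfl)
    have tow : @IsScalarTower B (B ⊗[R] P) (B ⊗[R] P) _ (bcModule R P P B).toSMul _ :=
      @IsScalarTower.of_algebraMap_smul B (B ⊗[R] P) (B ⊗[R] P) _ _ _ (bcModule R P P B).toMulAction _
        fun a x => (hmul _ x).trans (Algebra.smul_def a x).symm
    exact (@flat_localized_congr B (B ⊗[R] P) (B ⊗[R] P) (B ⊗[R] P) _ _ _ p.asIdeal.primeCompl _ _
      (bcModule R P P B) Semiring.toModule _ _ tow _ e).symm
  obtain ⟨C, hC, hflat⟩ := exists_stage_flatAt q.asIdeal ((key A q).1 h)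
  exact ⟨C, hC, (key C _).2 hflat⟩

open FlatDescent in
/-- Flatness at a fibre point follows from flatness at the generisation of its only branch. -/
theorem flat_stalkMap_of_generization {X S : Scheme.{u}} [IsAffine X] [IsAffine S] [IsReduced S] (f : X ⟶ S)
    [LocallyOfFinitePresentation f] (x η : X) (hηx : η ⤳ x) (hfib : f η = f x)
    (hgen : ∀ z, f z = f x → z ⤳ x → η ⤳ z) (hη : (f.stalkMap η).hom.Flat)
    (hred : FBase.IsGeomReducedAt (f.fiberToSpecResidueField (f x)) (f.asFiber x)) :
    (f.stalkMap x).hom.Flat := by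
  obtain ⟨A₀, B₀, φ, gS, gX, hφ, hA, sq⟩ := FlatMorApprox.exists_pullback_model f
  obtain ⟨ι, hι⟩ := Spec.map_surjective (S.isoSpec.inv ≫ gS)
  let A : CommRingCat.{u} := Γ(S, ⊤)
  letI : Algebra A₀ A := ι.hom.toAlgebra
  letI : Algebra A₀ B₀ := φ.hom.toAlgebra
  haveI : Algebra.FiniteType ℤ A₀ := RingHom.finiteType_algebraMap.1 hA
  haveI : IsNoetherianRing A₀ := Algebra.FiniteType.isNoetherianRing ℤ _
  haveI : Algebra.FiniteType A₀ B₀ := RingHom.FiniteType.of_finitePresentation hφ
  let T (B : Type u) [CommRing B] [Algebra A₀ B] := Spec (CommRingCat.of (B ⊗[A₀] B₀))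
  let π (B : Type u) [CommRing B] [Algebra A₀ B] : T B ⟶ Spec (CommRingCat.of B) :=
    Spec.map (CommRingCat.ofHom (algebraMap B (B ⊗[A₀] B₀)))
  have sqB : ∀ (B : Type u) [CommRing B] [Algebra A₀ B],
      IsPullback (Spec.map (CommRingCat.ofHom (Algebra.TensorProduct.includeRight.toRingHom : B₀ →+* B ⊗[A₀] B₀)))
        (π B) (Spec.map φ) (Spec.map (CommRingCat.ofHom (algebraMap A₀ B))) := fun B _ _ =>
    (isPullback_SpecMap_of_isPushout _ _ _ _ (CommRingCat.isPushout_tensorProduct A₀ B B₀)).flip
  have sq' : IsPullback gX (f ≫ S.isoSpec.hom) (Spec.map φ) (Spec.map (CommRingCat.ofHom (algebraMap A₀ A))) :=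
    sq.of_iso (Iso.refl _) (Iso.refl _) S.isoSpec (Iso.refl _) (by simp) (by simp) (by simp)
      (by simp only [Iso.refl_hom, Category.comp_id]
          show gS = S.isoSpec.hom ≫ Spec.map ι
          rw [hι, Iso.hom_inv_id_assoc])
  let e := sq'.isoIsPullback _ _ (sqB A)
  have he : e.hom ≫ π A = f ≫ S.isoSpec.hom := sq'.isoIsPullback_hom_snd _ _ (sqB A)
  have hflatA : ((π A).stalkMap (e.hom η)).hom.Flat := by
    have sqe : IsPullback e.inv (π A) f S.isoSpec.inv := IsPullback.of_horiz_isIso
      ⟨(Iso.inv_comp_eq _).2 (by rw [← Category.assoc, he, Category.assoc, Iso.hom_inv_id, Category.comp_id])⟩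
    exact Desc19b.flat_stalkMap_baseChange S.isoSpec.inv e.inv (π A) f sqe.flip (e.hom η)
      (by rw [show e.inv (e.hom η) = η from congrArg (fun k : X ⟶ X => k η) e.hom_inv_id]; exact hη)
  obtain ⟨C, hC, hflatC⟩ := exists_stage_flat_stalk (R := A₀) (P := B₀) (A := A) (e.hom η) hflatA
  haveI : Algebra.FiniteType A₀ C := (Subalgebra.fg_iff_finiteType C).1 hC
  haveI : IsNoetherianRing C := Algebra.FiniteType.isNoetherianRing A₀ _
  haveI : _root_.IsReduced C := isReduced_of_injective C.val Subtype.val_injective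
  let m : T A ⟶ T C := Spec.map (CommRingCat.ofHom (Algebra.TensorProduct.map C.val (AlgHom.id A₀ B₀)).toRingHom)
  let d : Spec A ⟶ Spec (CommRingCat.of C) := Spec.map (CommRingCat.ofHom C.val.toRingHom)
  have sqm : IsPullback m (π A) (π C) d := by
    refine IsPullback.of_right ?_ ?_ (sqB C)
    · convert sqB A using 1
      · simp only [m, ← Spec.map_comp, ← CommRingCat.ofHom_comp]
        congr 2
      · simp only [d, ← Spec.map_comp, ← CommRingCat.ofHom_comp]
        rfl
    · simp only [m, d, π, ← Spec.map_comp, ← CommRingCat.ofHom_comp]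
      congr 2
  have sqX : IsPullback (e.hom ≫ m) f (π C) (S.isoSpec.hom ≫ d) :=
    (IsPullback.of_horiz_isIso ⟨he⟩).paste_horiz sqm
  let a := e.hom ≫ m
  haveI : IsLocallyNoetherian (Spec (CommRingCat.of C)) := inferInstance
  haveI : LocallyOfFiniteType (π C) :=
    HasRingHomProperty.Spec_iff.2 (RingHom.finiteType_algebraMap.2 inferInstance)
  haveI : LocallyOfFinitePresentation (π C) := inferInstance
  have hf : ∀ z, π C (a z) = (S.isoSpec.hom ≫ d) (f z) := fun z =>
    congrArg (fun k : X ⟶ Spec (CommRingCat.of C) => k z) sqX.w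
  have hrC : _root_.IsReduced ((Spec (CommRingCat.of C)).presheaf.stalk (π C (a x))) := inferInstance
  have hflatx : ((π C).stalkMap (a x)).hom.Flat := by
    refine DvrCrit.flat_stalkMap_of_univOpen_of_geomReduced (π C) (a x) hrC (fun z hz hmax => ?_)
      (isGeomReducedAt_of_isPullback (π C) _ sqX x hred)
    have hzx : (π C).fiberι _ z ⤳ a x := by
      have := (specializes_iff_mem_closure.2 hz).map ((π C).fiberι (π C (a x))).continuous
      rwa [Scheme.Hom.fiberι_asFiber] at this
    obtain ⟨z', hz'x, hz'f, hz'⟩ := exists_lift_generization (π C) _ sqX x hzx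
      (((π C).range_fiberι _).le ⟨z, rfl⟩)
    obtain ⟨ζ, hζ⟩ : a η ∈ Set.range ((π C).fiberι (π C (a x))) := by
      rw [Scheme.Hom.range_fiberι]
      show π C (a η) = π C (a x)
      rw [hf, hf, hfib]
    have heq : ζ = z := hmax ζ (specializes_iff_mem_closure.1
      (((π C).fiberι (π C (a x))).isEmbedding.isInducing.specializes_iff.1
        (by rw [hζ, ← hz']; exact (hgen z' hz'f hz'x).map a.continuous)))
    rw [← heq, hζ]
    let U : (T C).Opens := ⟨_, isOpen_flat_stalkMap (π C)⟩
    have hU : a η ∈ U := hflatC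
    haveI : Flat (U.ι ≫ π C) := (Flat.iff_flat_stalkMap _).2 fun v => by
      rw [Scheme.Hom.stalkMap_comp, CommRingCat.hom_comp]
      exact RingHom.Flat.comp v.2 (RingHom.Flat.of_bijective (ConcreteCategory.bijective_of_isIso _))
    exact Chevalley.isUnivOpenAt_of_comp U.ι (π C) ⟨a η, hU⟩
      (DvrCrit.isUnivOpenAt_of_universallyOpen (U.ι ≫ π C) _)
  exact Desc19b.flat_stalkMap_baseChange (S.isoSpec.hom ≫ d) a f (π C) sqX.flip x hflatx

end Groth.Agent.EGA43.SectionComp
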