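import Groth.Agent.EGA43.SectionComp.AffineModel
import Groth.Agent.EGA43.DvrCrit.OpenFlat
import Groth.Agent.EGA43.SectionComp.FlatModel
import Groth.Agent.EGA43.FibDepth.GeomScheme

/-!
# EGA IV 15.6.6 (i): universal openness along the section components, finite presentation
-/

set_option autoImplicit false
set_option backward.isDefEq.respectTransparency false
set_option linter.style.haveILetI false

universe u

open CategoryTheory CategoryTheory.Limits AlgebraicGeometry TopologicalSpace IsLocalRing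

namespace Groth.Agent.EGA43.SectionComp

open Groth.Agent Groth.Agent.EGA43.DimFormula

variable {X Y U : Scheme.{u}} (f : X ⟶ Y) (g : Y ⟶ X) (j : U ⟶ X) [IsOpenImmersion j]

theorem comp_openImmersion (hg : g ≫ f = 𝟙 Y) (g₁ : Y ⟶ U) (hg₁ : g₁ ≫ j = g) (z : Y)
    (hirr : IsIrreducible (comp f g z)) : comp (j ≫ f) g₁ z = j.base ⁻¹' comp f g z := by
  have hjg : ∀ y, j (g₁ y) = g y := fun y => congrArg (fun φ : Y ⟶ X => φ y) hg₁
  have h₁ : g₁ ≫ j ≫ f = 𝟙 Y := by rw [← Category.assoc, hg₁, hg]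
  ext x
  constructor
  · intro hx
    refine (isPreconnected_connectedComponentIn.image _ j.continuous.continuousOn).subset_connectedComponentIn
      ⟨g₁ z, mem_comp_self (j ≫ f) g₁ h₁ z, hjg z⟩ ?_ ⟨x, hx, rfl⟩
    rintro _ ⟨q, hq, rfl⟩
    exact comp_subset (j ≫ f) g₁ z hq
  · intro hx
    obtain ⟨η, hη, hgen, -⟩ := exists_generic_comp f g hg z hirr
    obtain ⟨η', rfl⟩ : η ∈ Set.range j :=
      (hgen _ (mem_comp_self f g hg z)).mem_open j.isOpenEmbedding.isOpen_range ⟨_, hjg z⟩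
    have hsp : ∀ v : U, j η' ⤳ j v → η' ⤳ v := fun v hv => j.isEmbedding.isInducing.specializes_iff.1 hv
    refine mem_comp_of_specializes (j ≫ f) g₁
      (mem_comp_of_specializes (j ≫ f) g₁ (mem_comp_self (j ≫ f) g₁ h₁ z) (comp_subset f g z hη)
        (Or.inl (hsp _ ((hjg z).symm ▸ hgen _ (mem_comp_self f g hg z))))) (comp_subset f g z hx)
      (Or.inr (hsp _ (hgen _ hx)))

theorem isGeomIrrComp_openImmersion (hg : g ≫ f = 𝟙 Y) (g₁ : Y ⟶ U) (hg₁ : g₁ ≫ j = g) (z : Y)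
    (hgi : IsGeomIrrComp f g z) : IsGeomIrrComp (j ≫ f) g₁ z := by
  intro K _ _
  let κ := Spec.map (CommRingCat.ofHom (algebraMap (IsLocalRing.ResidueField (Y.presheaf.stalk z)) K))
  let jz : (j ≫ f).fiber z ⟶ f.fiber z :=
    pullback.lift (pullback.fst _ _ ≫ j) (pullback.snd _ _) (by rw [Category.assoc, pullback.condition])
  have hjz : IsPullback (pullback.fst (j ≫ f) (Y.fromSpecResidueField z)) jz j
      (pullback.fst f (Y.fromSpecResidueField z)) := by
    refine IsPullback.of_bot ?_ (by simp [jz]) (IsPullback.of_hasPullback f (Y.fromSpecResidueField z))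
    convert IsPullback.of_hasPullback (j ≫ f) (Y.fromSpecResidueField z) using 1
    simp [jz]
  have hjzs : jz ≫ f.fiberToSpecResidueField z = (j ≫ f).fiberToSpecResidueField z := pullback.lift_snd _ _ _
  let jK : pullback ((j ≫ f).fiberToSpecResidueField z) κ ⟶ pullback (f.fiberToSpecResidueField z) κ :=
    pullback.lift (pullback.fst _ _ ≫ jz) (pullback.snd _ _) (by rw [Category.assoc, hjzs, pullback.condition])
  have hjK : IsPullback (pullback.fst ((j ≫ f).fiberToSpecResidueField z) κ) jK jz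
      (pullback.fst (f.fiberToSpecResidueField z) κ) := by
    refine IsPullback.of_bot ?_ (by simp [jK]) (IsPullback.of_hasPullback (f.fiberToSpecResidueField z) κ)
    rw [show jK ≫ pullback.snd (f.fiberToSpecResidueField z) κ =
        pullback.snd ((j ≫ f).fiberToSpecResidueField z) κ from pullback.lift_snd _ _ _, hjzs]
    exact IsPullback.of_hasPullback _ _
  haveI : IsOpenImmersion jz := MorphismProperty.of_isPullback hjz inferInstance
  haveI : IsOpenImmersion jK := MorphismProperty.of_isPullback hjK inferInstance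
  have hcomm : ∀ b, (FBase.bcπ (f.fiberToSpecResidueField z) K ≫ f.fiberι z) (jK b) =
      j ((FBase.bcπ ((j ≫ f).fiberToSpecResidueField z) K ≫ (j ≫ f).fiberι z) b) := fun b => by
    have e1 : jK ≫ pullback.fst (f.fiberToSpecResidueField z) κ = pullback.fst _ _ ≫ jz := pullback.lift_fst _ _ _
    have e2 : jz ≫ f.fiberι z = (j ≫ f).fiberι z ≫ j := pullback.lift_fst _ _ _
    have : jK ≫ FBase.bcπ (f.fiberToSpecResidueField z) K ≫ f.fiberι z =
        (FBase.bcπ ((j ≫ f).fiberToSpecResidueField z) K ≫ (j ≫ f).fiberι z) ≫ j := by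
      show jK ≫ pullback.fst (f.fiberToSpecResidueField z) κ ≫ f.fiberι z = _
      rw [reassoc_of% e1, e2, Category.assoc]
      rfl
    exact congrArg (fun φ : pullback ((j ≫ f).fiberToSpecResidueField z) κ ⟶ X => φ b) this
  have hpre : (FBase.bcπ ((j ≫ f).fiberToSpecResidueField z) K ≫ (j ≫ f).fiberι z).base ⁻¹' comp (j ≫ f) g₁ z =
      jK.base ⁻¹' ((FBase.bcπ (f.fiberToSpecResidueField z) K ≫ f.fiberι z).base ⁻¹' comp f g z) := by
    rw [comp_openImmersion f g j hg g₁ hg₁ z (isIrreducible_comp_of_geom f g z (hgi _))]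
    ext b
    simp only [Set.mem_preimage]
    rw [hcomm]
  rw [hpre]
  refine ⟨?_, (hgi K).2.preimage jK.isOpenEmbedding⟩
  have h₁ : g₁ ≫ j ≫ f = 𝟙 Y := by rw [← Category.assoc, hg₁, hg]
  obtain ⟨a, ha⟩ : g₁ z ∈ Set.range ((j ≫ f).fiberι z) :=
    ((j ≫ f).range_fiberι z).ge (apply_section (j ≫ f) g₁ h₁ z)
  obtain ⟨b, hb, -⟩ := Scheme.Pullback.exists_preimage_pullback (f := (j ≫ f).fiberToSpecResidueField z) (g := κ)
    a (⟨⊥, Ideal.isPrime_bot⟩ : PrimeSpectrum K)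
    (Subsingleton.elim (α := PrimeSpectrum (IsLocalRing.ResidueField (Y.presheaf.stalk z))) _ _)
  refine ⟨b, ?_⟩
  show (FBase.bcπ (f.fiberToSpecResidueField z) K ≫ f.fiberι z) (jK b) ∈ comp f g z
  rw [hcomm, show (FBase.bcπ ((j ≫ f).fiberToSpecResidueField z) K ≫ (j ≫ f).fiberι z) b = g₁ z from
    (congrArg ((j ≫ f).fiberι z) hb).trans ha, show j (g₁ z) = g z from congrArg (fun φ : Y ⟶ X => φ z) hg₁]
  exact mem_comp_self f g hg z

theorem dim_comp_openImmersion [LocallyOfFiniteType f] (hg : g ≫ f = 𝟙 Y) (g₁ : Y ⟶ U) (hg₁ : g₁ ≫ j = g)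
    (z : Y) (hirr : IsIrreducible (comp f g z)) :
    topologicalKrullDim ↥(comp (j ≫ f) g₁ z) = topologicalKrullDim ↥(comp f g z) := by
  obtain ⟨η, hη, hgen, -⟩ := exists_generic_comp f g hg z hirr
  have hjg : j (g₁ z) = g z := congrArg (fun φ : Y ⟶ X => φ z) hg₁
  have h₁ : g₁ ≫ j ≫ f = 𝟙 Y := by rw [← Category.assoc, hg₁, hg]
  obtain ⟨η', rfl⟩ : η ∈ Set.range j :=
    (hgen _ (mem_comp_self f g hg z)).mem_open j.isOpenEmbedding.isOpen_range ⟨_, hjg⟩
  have hc := comp_openImmersion f g j hg g₁ hg₁ z hirr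
  rw [topologicalKrullDim_comp_eq (j ≫ f) g₁ h₁ z (η := η') (hc.ge hη)
      (fun x hx => j.isEmbedding.isInducing.specializes_iff.1 (hgen _ (hc.le hx))),
    topologicalKrullDim_comp_eq f g hg z hη hgen, trdAt_comp j f]

omit g U j in
theorem isGeomReducedAt_of_generization [LocallyOfFinitePresentation f] {η x : X} (h : η ⤳ x) (he : f η = f x)
    (hred : FBase.IsGeomReducedAt (f.fiberToSpecResidueField (f x)) (f.asFiber x)) :
    FBase.IsGeomReducedAt (f.fiberToSpecResidueField (f η)) (f.asFiber η) := by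
  obtain ⟨t, ht⟩ : η ∈ Set.range (f.fiberι (f x)) := by rw [f.range_fiberι]; exact he
  suffices FBase.IsGeomReducedAt (f.fiberToSpecResidueField (f x)) t by
    have key : ∀ (y : Y) (s : f.fiber y), f η = y → f.fiberι y s = η →
        FBase.IsGeomReducedAt (f.fiberToSpecResidueField y) s →
        FBase.IsGeomReducedAt (f.fiberToSpecResidueField (f η)) (f.asFiber η) := by
      intro y s hy hs hr
      subst hy
      rwa [show f.asFiber η = s from (f.fiberι _).isEmbedding.injective ((f.fiberι_asFiber η).trans hs.symm)]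
    exact key _ t he ht this
  have htx : t ⤳ f.asFiber x := (f.fiberι (f x)).isEmbedding.isInducing.specializes_iff.1
    (by rw [ht, f.fiberι_asFiber]; exact h)
  obtain ⟨h1, h2⟩ := (FibDepth.isGeomReducedAt_iff f _ _).1 hred
  refine (FibDepth.isGeomReducedAt_iff f _ _).2 ⟨fun z' hz' => h1 z' (hz'.trans htx), ?_⟩
  obtain ⟨R, _, _, _, φ, _, q, hφ, hq⟩ := FibDepth.exists_fibre_chart f (f x) (f.asFiber x)
  rw [← hq] at h2 htx
  obtain ⟨w, rfl⟩ : t ∈ Set.range φ := htx.mem_open φ.isOpenEmbedding.isOpen_range ⟨q, rfl⟩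
  obtain ⟨e⟩ := FibDepth.nonempty_stalk_equiv φ q
  obtain ⟨e'⟩ := FibDepth.nonempty_stalk_equiv φ w
  haveI : IsNoetherianRing R := Algebra.FiniteType.isNoetherianRing (IsLocalRing.ResidueField (Y.presheaf.stalk (f x))) R
  haveI := isNoetherianRing_of_ringEquiv _ e
  haveI := isNoetherianRing_of_ringEquiv _ e'
  refine CommAlg6.hasSk_of_ringEquiv e' ((CommAlg6.hasSk_atPrime_iff 1 w.asIdeal).2 fun p _ hp => ?_)
  exact (CommAlg6.hasSk_atPrime_iff 1 q.asIdeal).1 (CommAlg6.hasSk_of_ringEquiv e.symm h2) p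
    (hp.trans ((PrimeSpectrum.le_iff_specializes w q).2 (φ.isOpenEmbedding.isInducing.specializes_iff.1 htx)))

omit g U j in
theorem flat_chart_iff {U' S : Scheme.{u}} (i : U' ⟶ X) [IsOpenImmersion i] (fU : U' ⟶ S) (k : S ⟶ Y) [IsOpenImmersion k]
    (hw : i ≫ f = fU ≫ k) (w : U') : (fU.stalkMap w).hom.Flat ↔ (f.stalkMap (i w)).hom.Flat := by
  have h1 : ((i ≫ f).stalkMap w).hom.Flat ↔ (f.stalkMap (i w)).hom.Flat := by
    rw [Scheme.Hom.stalkMap_comp]
    exact RingHom.Flat.respectsIso.cancel_right_isIso _ _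
  have h2 : ((fU ≫ k).stalkMap w).hom.Flat ↔ (fU.stalkMap w).hom.Flat := by
    rw [Scheme.Hom.stalkMap_comp]
    exact RingHom.Flat.respectsIso.cancel_left_isIso _ _
  have h3 : ∀ {φ ψ : U' ⟶ Y}, φ = ψ → ((φ.stalkMap w).hom.Flat ↔ (ψ.stalkMap w).hom.Flat) := by
    rintro _ _ rfl
    exact Iff.rfl
  exact h2.symm.trans ((h3 hw.symm).trans h1)

omit g U j in
theorem isGeomReducedAt_chart {U' S : Scheme.{u}} (i : U' ⟶ X) [IsOpenImmersion i] (fU : U' ⟶ S) (k : S ⟶ Y)
    [IsOpenImmersion k] (hw : i ≫ f = fU ≫ k) (w : U')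
    (h : FBase.IsGeomReducedAt (f.fiberToSpecResidueField (f (i w))) (f.asFiber (i w))) :
    FBase.IsGeomReducedAt (fU.fiberToSpecResidueField (fU w)) (fU.asFiber w) := by
  have h' : FBase.IsGeomReducedAt ((fU ≫ k).fiberToSpecResidueField ((fU ≫ k) w)) ((fU ≫ k).asFiber w) :=
    isGeomReducedAt_congr hw w (geomAt_fiber_openImmersion (Pr := fun R _ => _root_.IsReduced R) reduced_ringEquiv i f w h)
  let l : U' ⟶ pullback (fU ≫ k) k := pullback.lift (𝟙 _) fU (Category.id_comp _)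
  haveI : IsOpenImmersion l := by
    haveI : IsOpenImmersion (l ≫ pullback.fst (fU ≫ k) k) := by rw [pullback.lift_fst]; infer_instance
    exact IsOpenImmersion.of_comp l (pullback.fst (fU ≫ k) k)
  have h'' := PtIntegral.geomAt_baseChange (Pr := fun R _ => _root_.IsReduced R) (fU ≫ k) k reduced_ringEquiv (l w)
    (x := w) (congrArg (fun φ : U' ⟶ U' => φ w) (pullback.lift_fst _ _ _)) h'
  exact isGeomReducedAt_congr (pullback.lift_snd _ _ _) w
    (geomAt_fiber_openImmersion (Pr := fun R _ => _root_.IsReduced R) reduced_ringEquiv l (pullback.snd (fU ≫ k) k) w h'')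

omit U j in
/-- An affine chart around the section containing the generic points of the components. -/
theorem exists_chart [LocallyOfFinitePresentation f] (hg : g ≫ f = 𝟙 Y)
    (hgi : ∀ z, IsGeomIrrComp f g z) (y₀ : Y)
    (hconst : ∃ V ∈ nhds y₀, ∀ z ∈ V, topologicalKrullDim ↥(comp f g z) = topologicalKrullDim ↥(comp f g y₀)) :
    ∃ (S : Y.Opens) (_ : IsAffine S.toScheme) (U : Scheme.{u}) (_ : IsAffine U) (i : U ⟶ X) (_ : IsOpenImmersion i)
      (fU : U ⟶ S.toScheme) (_ : LocallyOfFinitePresentation fU) (g₁ : S.toScheme ⟶ U) (n : ℕ),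
      y₀ ∈ S ∧ i ≫ f = fU ≫ S.ι ∧ g₁ ≫ fU = 𝟙 _ ∧ (∀ z, IsGeomIrrComp fU g₁ z) ∧
      (∀ z, topologicalKrullDim ↥(comp fU g₁ z) = (n : WithBot ℕ∞)) ∧
      ∀ x ∈ MoreMor.sectionComponents f g, f x ∈ S → ∃ η' : U, f (i η') = f x ∧ i η' ⤳ x ∧
        (∀ w ∈ comp f g (f x), i η' ⤳ w) ∧ η' ∈ comp fU g₁ (fU η') := by
  obtain ⟨V, hV, hc⟩ := hconst
  obtain ⟨V', hV'V, hV'o, hy₀V'⟩ := mem_nhds_iff.1 hV
  obtain ⟨S₀, hS₀, hyS₀, -⟩ := exists_isAffineOpen_mem_and_subset (x := y₀) (U := ⊤) trivial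
  obtain ⟨U₁, hU₁, hgU₁, hU₁S₀⟩ := exists_isAffineOpen_mem_and_subset (x := g y₀) (U := f ⁻¹ᵁ S₀)
    (show f (g y₀) ∈ S₀ from (apply_section f g hg y₀).symm ▸ hyS₀)
  obtain ⟨r, hrle, hyr⟩ := hS₀.exists_basicOpen_le (V := (⟨V', hV'o⟩ : Y.Opens) ⊓ g ⁻¹ᵁ U₁)
    (⟨y₀, hy₀V', hgU₁⟩ : ↥((⟨V', hV'o⟩ : Y.Opens) ⊓ g ⁻¹ᵁ U₁)) hyS₀
  let S : Y.Opens := Y.basicOpen r
  let U' : X.Opens := U₁ ⊓ f ⁻¹ᵁ S
  have hU' : IsAffineOpen U' := by
    have h1 := hU₁.basicOpen (f.appLE S₀ U₁ hU₁S₀ r)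
    rwa [Scheme.basicOpen_appLE] at h1
  have hgle : S ≤ g ⁻¹ᵁ U' := fun z hz =>
    ⟨(hrle hz).2, show f (g z) ∈ S from (apply_section f g hg z).symm ▸ hz⟩
  let fS := pullback.snd f S.ι
  let gS := sectionBC f g hg S.ι
  let j : U'.toScheme ⟶ pullback f S.ι :=
    pullback.lift U'.ι (f.resLE S U' inf_le_right) (Scheme.Hom.resLE_comp_ι f (e := inf_le_right)).symm
  haveI : IsOpenImmersion (pullback.fst f S.ι) := inferInstance
  haveI : IsOpenImmersion (j ≫ pullback.fst f S.ι) := by rw [pullback.lift_fst]; infer_instance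
  haveI : IsOpenImmersion j := IsOpenImmersion.of_comp j (pullback.fst f S.ι)
  haveI : LocallyOfFinitePresentation fS :=
    MorphismProperty.pullback_snd (P := @LocallyOfFinitePresentation.{u}) _ _ inferInstance
  let g₁ : S.toScheme ⟶ U'.toScheme := g.resLE U' S hgle
  have hg₁ : g₁ ≫ j = gS := by
    apply pullback.hom_ext
    · rw [Category.assoc, pullback.lift_fst, Scheme.Hom.resLE_comp_ι, sectionBC_fst]
    · rw [Category.assoc, pullback.lift_snd, sectionBC_snd, ← cancel_mono S.ι, Category.assoc,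
        Scheme.Hom.resLE_comp_ι, Scheme.Hom.resLE_comp_ι_assoc, hg, Category.comp_id, Category.id_comp]
  haveI : IsAffine S.toScheme := hS₀.basicOpen r
  haveI : IsAffine U'.toScheme := hU'
  have hgiS : ∀ z, IsGeomIrrComp fS gS z := fun z =>
    (isGeomIrrComp_baseChange_iff f g fS gS _ S.ι (IsPullback.of_hasPullback f S.ι) hg
      (sectionBC_snd f g hg S.ι) (sectionBC_fst f g hg S.ι) z).2 (hgi _)
  have hirrS := fun z => isIrreducible_comp_of_geom fS gS z (hgiS z _)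
  obtain ⟨η₀, hη₀, hgen₀, -⟩ := exists_generic_comp f g hg y₀ (isIrreducible_comp_of_geom f g y₀ (hgi y₀ _))
  have hdS : ∀ z : S.toScheme, topologicalKrullDim ↥(comp (j ≫ fS) g₁ z) = (trdAt f η₀ : WithBot ℕ∞) := fun z => by
    rw [dim_comp_openImmersion fS gS j (sectionBC_snd f g hg S.ι) g₁ hg₁ z (hirrS z),
      trdAt_generic_sectionBC f g hg S.ι z (isIrreducible_comp_of_geom f g _ (hgi _ _)) (hirrS z),
      hc (S.ι z) (hV'V (hrle z.2).1), topologicalKrullDim_comp_eq f g hg y₀ hη₀ hgen₀]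
  have h₁ : g₁ ≫ j ≫ fS = 𝟙 _ := by rw [← Category.assoc, hg₁, sectionBC_snd]
  refine ⟨S, inferInstance, U'.toScheme, inferInstance, U'.ι, inferInstance, j ≫ fS, inferInstance, g₁,
    trdAt f η₀, hyr, by rw [Category.assoc, ← pullback.condition, pullback.lift_fst_assoc], h₁,
    fun t => isGeomIrrComp_openImmersion fS gS j (sectionBC_snd f g hg S.ι) g₁ hg₁ t (hgiS t), hdS,
    fun x hx hxS => ?_⟩
  have hxC := (mem_sectionComponents_iff f g x).1 hx
  obtain ⟨η, hη, hgenη, -⟩ := exists_generic_comp f g hg (f x) (isIrreducible_comp_of_geom f g _ (hgi _ _))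
  have hηU : η ∈ U' := (hgenη _ (mem_comp_self f g hg _)).mem_open U'.isOpen (hgle hxS)
  let η' : U'.toScheme := ⟨η, hηU⟩
  have hjη : pullback.fst f S.ι (j η') = η :=
    congrArg (fun φ : U'.toScheme ⟶ X => φ η') (pullback.lift_fst _ _ _)
  let z : S.toScheme := (j ≫ fS) η'
  have hz : z.1 = f x := by
    have h := congrArg (fun φ : pullback f S.ι ⟶ Y => φ (j η')) pullback.condition
    exact h.symm.trans ((congrArg f hjη).trans (comp_subset f g _ hη))
  have hη' : η' ∈ comp (j ≫ fS) g₁ z := by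
    rw [comp_openImmersion fS gS j (sectionBC_snd f g hg S.ι) g₁ hg₁ z (hirrS z), Set.mem_preimage,
      comp_sectionBC]
    refine ⟨?_, rfl⟩
    show pullback.fst f S.ι (j η') ∈ comp f g z.1
    rw [hjη, hz]
    exact hη
  exact ⟨η', comp_subset f g _ hη, hgenη x hxC, hgenη, hη'⟩

omit U j in
/-- EGA IV 15.6.6 (i), finite presentation. -/
theorem exists_open_isUnivOpenAt_of_dim_const [LocallyOfFinitePresentation f] (hg : g ≫ f = 𝟙 Y)
    (hgi : ∀ z, IsGeomIrrComp f g z) (y₀ : Y)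
    (hconst : ∃ V ∈ nhds y₀, ∀ z ∈ V, topologicalKrullDim ↥(comp f g z) = topologicalKrullDim ↥(comp f g y₀)) :
    ∃ S : Y.Opens, y₀ ∈ S ∧ ∀ x ∈ MoreMor.sectionComponents f g, f x ∈ S → EGA43.IsUnivOpenAt f x := by
  obtain ⟨S, _, U, _, i, _, fU, _, g₁, n, hy, hw, h₁, hgi₁, hd, h⟩ := exists_chart f g hg hgi y₀ hconst
  refine ⟨S, hy, fun x hx hxS => ?_⟩
  obtain ⟨η', hη'f, hη'x, -, hη'⟩ := h x hx hxS
  refine isUnivOpenAt_of_specializes f hη'x hη'f ?_
  have h3 := isUnivOpenAt_comp_of_affine fU g₁ h₁ hgi₁ n hd (fU η') hη'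
  exact Chevalley.isUnivOpenAt_of_comp i f η'
    (hw ▸ isUnivOpenAt_comp h3 (DvrCrit.isUnivOpenAt_of_universallyOpen S.ι _))

omit U j in
/-- EGA IV 15.6.6 (ii), finite presentation. -/
theorem flat_stalkMap_of_dim_const [LocallyOfFinitePresentation f] [AlgebraicGeometry.IsReduced Y] (hg : g ≫ f = 𝟙 Y)
    (hgi : ∀ z, IsGeomIrrComp f g z) (x₀ : X) (hx₀ : x₀ ∈ MoreMor.sectionComponents f g)
    (hconst : ∃ V ∈ nhds (f x₀), ∀ z ∈ V, topologicalKrullDim ↥(comp f g z) = topologicalKrullDim ↥(comp f g (f x₀)))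
    (hred : FBase.IsGeomReducedAt (f.fiberToSpecResidueField (f x₀)) (f.asFiber x₀)) :
    (f.stalkMap x₀).hom.Flat := by
  obtain ⟨S, _, U, _, i, _, fU, _, g₁, n, hy, hw, h₁, hgi₁, hd, h⟩ := exists_chart f g hg hgi (f x₀) hconst
  obtain ⟨η', hη'f, hη'x, hgen, hη'⟩ := h x₀ hx₀ hy
  -- the fibre near a point of the component is irreducible
  have hgenU : ∀ q, f q = f x₀ → q ⤳ x₀ → i η' ⤳ q := fun q hq h' =>
    hgen q (mem_comp_of_specializes f g ((mem_sectionComponents_iff f g x₀).1 hx₀) hq (Or.inl h'))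
  obtain ⟨W, hW, hxW, hWS⟩ := exists_isAffineOpen_mem_and_subset (x := x₀) (U := f ⁻¹ᵁ S) hy
  let fW : W.toScheme ⟶ S.toScheme := f.resLE S W hWS
  haveI : IsAffine W.toScheme := hW
  haveI : AlgebraicGeometry.IsReduced S.toScheme := isReduced_of_isOpenImmersion S.ι
  have hcompW : fW ≫ S.ι = W.ι ≫ f := Scheme.Hom.resLE_comp_ι _ _
  -- flat at the generic point
  have hflatη : (f.stalkMap (i η')).hom.Flat := by
    have hredη : FBase.IsGeomReducedAt (f.fiberToSpecResidueField (f (i η'))) (f.asFiber (i η')) :=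
      isGeomReducedAt_of_generization f hη'x hη'f hred
    obtain ⟨A₁, _, _, X₁, f₁, a₁, b, _, sq, hA₁, hopen⟩ := exists_good_model fU g₁ h₁ hgi₁ n hd
    haveI := hA₁ inferInstance
    haveI : IsLocallyNoetherian (Spec (CommRingCat.of A₁)) := inferInstance
    have hredU : FBase.IsGeomReducedAt (fU.fiberToSpecResidueField (fU η')) (fU.asFiber η') :=
      isGeomReducedAt_chart f i fU S.ι hw η' hredη
    refine (flat_chart_iff f i fU S.ι hw η').1 (Desc19b.flat_stalkMap_baseChange b a₁ fU f₁ sq.flip η' ?_)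
    refine DvrCrit.flat_stalkMap_of_univOpen_of_geomReduced f₁ (a₁ η') inferInstance (fun z hz hmax => ?_)
      (isGeomReducedAt_of_isPullback f₁ b sq η' hredU)
    have hzx : f₁.fiberι _ z ⤳ a₁ η' := by
      have := (specializes_iff_mem_closure.2 hz).map (f₁.fiberι (f₁ (a₁ η'))).continuous
      rwa [Scheme.Hom.fiberι_asFiber] at this
    obtain ⟨z', hz'x, hz'f, hz'⟩ := exists_lift_generization f₁ _ sq η' hzx ((f₁.range_fiberι _).le ⟨z, rfl⟩)
    rw [← hz']
    exact hopen (fU η') z' (mem_comp_of_specializes fU g₁ hη' hz'f (Or.inl hz'x))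
  have hηW : i η' ∈ W := hη'x.mem_open W.isOpen hxW
  let η₂ : W.toScheme := ⟨i η', hηW⟩
  let x₂ : W.toScheme := ⟨x₀, hxW⟩
  have hfW : ∀ q : W.toScheme, S.ι (fW q) = f q.1 := fun q =>
    congrArg (fun φ : W.toScheme ⟶ Y => φ q) hcompW
  haveI : LocallyOfFinitePresentation fW :=
    IsZariskiLocalAtSource.resLE (P := @LocallyOfFinitePresentation) hWS ‹_›
  refine (flat_chart_iff f W.ι fW S.ι hcompW.symm x₂).1 ?_
  refine flat_stalkMap_of_generization fW x₂ η₂ (W.ι.isEmbedding.isInducing.specializes_iff.1 hη'x)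
    (S.ι.isEmbedding.injective ((hfW η₂).trans (hη'f.trans (hfW x₂).symm))) (fun q hq hqx => ?_)
    ((flat_chart_iff f W.ι fW S.ι hcompW.symm η₂).2 hflatη)
    (isGeomReducedAt_chart f W.ι fW S.ι hcompW.symm x₂ hred)
  exact W.ι.isEmbedding.isInducing.specializes_iff.1 (hgenU q.1
    ((hfW q).symm.trans ((congrArg S.ι hq).trans (hfW x₂))) (hqx.map W.ι.continuous))

end Groth.Agent.EGA43.SectionComp
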