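import Groth.Agent.EGA43.DvrCrit.GeomFibre
import Groth.Agent.EGA43.OpenAt
import Mathlib.AlgebraicGeometry.Morphisms.Flat

/-!
# Universal openness specializes inside fibres
-/

set_option autoImplicit false
set_option backward.isDefEq.respectTransparency false
set_option linter.style.haveILetI false

universe u

open CategoryTheory CategoryTheory.Limits AlgebraicGeometry

namespace Groth.Agent.EGA43.SectionComp

variable {X Y : Scheme.{u}}

theorem flat_specMap_field {K L : Type u} [Field K] [Field L] [Algebra K L] :
    Flat (Spec.map (CommRingCat.ofHom (algebraMap K L))) :=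
  HasRingHomProperty.Spec_iff.2 (RingHom.flat_algebraMap_iff.2 inferInstance)

theorem isUnivOpenAt_of_specializes (f : X ⟶ Y) {η x : X} (hsp : η ⤳ x) (he : f η = f x)
    (h : EGA43.IsUnivOpenAt f η) : EGA43.IsUnivOpenAt f x := by
  intro S g x' hx'
  have hgx : g (pullback.snd f g x') = f x := by
    rw [← hx', ← Scheme.Hom.comp_apply, ← Scheme.Hom.comp_apply, pullback.condition]
  obtain ⟨e, hcomp⟩ := DvrCrit.exists_fiber_iso f g (pullback.snd f g x') hgx
  letI : Algebra (IsLocalRing.ResidueField (Y.presheaf.stalk (f x))) (S.residueField (pullback.snd f g x')) :=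
    (DvrCrit.resExt g (pullback.snd f g x') hgx).hom.toAlgebra
  let κ := Spec.map (CommRingCat.ofHom (algebraMap (IsLocalRing.ResidueField (Y.presheaf.stalk (f x)))
    (S.residueField (pullback.snd f g x'))))
  haveI : Flat κ := flat_specMap_field
  haveI : Flat (pullback.fst (f.fiberToSpecResidueField (f x)) κ) := MorphismProperty.pullback_fst _ _ inferInstance
  obtain ⟨a, ha⟩ : η ∈ Set.range (f.fiberι (f x)) := (f.range_fiberι (f x)).ge he
  have hax : a ⤳ f.asFiber x := by
    rw [← (f.fiberι (f x)).isEmbedding.isInducing.specializes_iff, f.fiberι_asFiber, ha]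
    exact hsp
  let w := e.hom ((pullback.snd f g).asFiber x')
  have hw : pullback.fst (f.fiberToSpecResidueField (f x)) κ w = f.asFiber x := by
    apply (f.fiberι (f x)).isEmbedding.injective
    rw [f.fiberι_asFiber]
    exact (congrArg (fun φ : (pullback.snd f g).fiber (pullback.snd f g x') ⟶ X => φ ((pullback.snd f g).asFiber x'))
      hcomp).trans ((congrArg (pullback.fst f g) ((pullback.snd f g).fiberι_asFiber x')).trans hx')
  obtain ⟨b, hbw, hb⟩ := (Flat.generalizingMap (pullback.fst (f.fiberToSpecResidueField (f x)) κ)) (hw.symm ▸ hax)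
  obtain ⟨b', rfl⟩ := e.hom.homeomorph.surjective b
  have h1 : (pullback.snd f g).fiberι _ b' ⤳ x' := by
    have := ((e.hom.homeomorph.isEmbedding.isInducing.specializes_iff).1 hbw).map
      ((pullback.snd f g).fiberι (pullback.snd f g x')).continuous
    rwa [(pullback.snd f g).fiberι_asFiber] at this
  have h2 : pullback.fst f g ((pullback.snd f g).fiberι _ b') = η :=
    ((congrArg (fun φ : (pullback.snd f g).fiber (pullback.snd f g x') ⟶ X => φ b') hcomp).symm).trans
      ((congrArg (f.fiberι (f x)) hb).trans ha)
  intro U hU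
  have h3 := h S g _ h2 U (h1 hU)
  rwa [show (pullback.snd f g).base ((pullback.snd f g).fiberι (pullback.snd f g x') b') =
    (pullback.snd f g).base x' from ((pullback.snd f g).range_fiberι _).le ⟨b', rfl⟩] at h3

end Groth.Agent.EGA43.SectionComp
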