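import Groth.Agent.EGA43.SectionComp.Dim
import Groth.Agent.EGA43.DvrCrit.GeomFibre
import Groth.Agent.EGA43.UnivOpen.Dvr
import Groth.Agent.FlatMorSection.BaseChange

/-!
# EGA IV 15.6.6: universal openness for constant dimension of section components
-/

set_option autoImplicit false
set_option backward.isDefEq.respectTransparency false
set_option linter.style.haveILetI false

universe u

open CategoryTheory CategoryTheory.Limits AlgebraicGeometry TopologicalSpace IsLocalRing

namespace Groth.Agent.EGA43.SectionComp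

open Groth.Agent Groth.Agent.EGA43.DimFormula

variable {X Y S : Scheme.{u}} (f : X ⟶ Y) (g : Y ⟶ X) (hg : g ≫ f = 𝟙 Y) (h : S ⟶ Y)

/-- The lifted section. -/
noncomputable def sectionBC : S ⟶ pullback f h :=
  pullback.lift (h ≫ g) (𝟙 S) (by rw [Category.assoc, hg, Category.comp_id, Category.id_comp])

include hg in
theorem sectionBC_snd : sectionBC f g hg h ≫ pullback.snd f h = 𝟙 S := pullback.lift_snd _ _ _

include hg in
theorem sectionBC_fst : sectionBC f g hg h ≫ pullback.fst f h = h ≫ g := pullback.lift_fst _ _ _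

theorem sectionComponents_sectionBC :
    MoreMor.sectionComponents (pullback.snd f h) (sectionBC f g hg h) =
      pullback.fst f h ⁻¹' MoreMor.sectionComponents f g :=
  FlatMorSection.sectionComponents_baseChange f g hg (pullback.snd f h) _ h (IsPullback.of_hasPullback f h)
    (sectionBC f g hg h) (sectionBC_snd f g hg h) (sectionBC_fst f g hg h)

theorem comp_sectionBC (t : S) :
    comp (pullback.snd f h) (sectionBC f g hg h) t =
      pullback.fst f h ⁻¹' comp f g (h t) ∩ (pullback.snd f h).base ⁻¹' {t} := by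
  ext v
  have hfv : f (pullback.fst f h v) = h (pullback.snd f h v) :=
    congrArg (fun φ : pullback f h ⟶ Y => φ v) pullback.condition
  have key : v ∈ MoreMor.sectionComponents (pullback.snd f h) (sectionBC f g hg h) ↔
      pullback.fst f h v ∈ MoreMor.sectionComponents f g := by rw [sectionComponents_sectionBC]; rfl
  rw [mem_sectionComponents_iff, mem_sectionComponents_iff] at key
  constructor
  · intro hv
    have hvt : pullback.snd f h v = t := comp_subset _ _ t hv
    refine ⟨?_, hvt⟩
    show pullback.fst f h v ∈ comp f g (h t)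
    rw [← hvt, ← hfv]
    exact key.1 (hvt ▸ hv)
  · rintro ⟨hv, hvt⟩
    have hvt' : pullback.snd f h v = t := hvt
    rw [← hvt']
    refine key.2 ?_
    rw [hfv, hvt']
    exact hv

theorem isIrreducible_comp_sectionBC
    (hgi : ∀ (z : Y) (K : Type u) [Field K] [Algebra (IsLocalRing.ResidueField (Y.presheaf.stalk z)) K],
      IsIrreducible ((FBase.bcπ (f.fiberToSpecResidueField z) K ≫ f.fiberι z).base ⁻¹' comp f g z)) (t : S) :
    IsIrreducible (comp (pullback.snd f h) (sectionBC f g hg h) t) := by
  obtain ⟨e, he⟩ := DvrCrit.exists_fiber_iso f h t rfl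
  letI : Algebra (IsLocalRing.ResidueField (Y.presheaf.stalk (h t))) (S.residueField t) :=
    (DvrCrit.resExt h t rfl).hom.toAlgebra
  have hS := hgi (h t) (S.residueField t)
  have himg := (hS.image _ (e.inv ≫ (pullback.snd f h).fiberι t).continuous.continuousOn)
  convert himg using 1
  rw [comp_sectionBC]
  have hh : ∀ q, pullback.fst f h ((pullback.snd f h).fiberι t q) =
      (FBase.bcπ (f.fiberToSpecResidueField (h t)) (S.residueField t) ≫ f.fiberι (h t)) (e.hom q) := fun q =>
    (congrArg (fun φ : (pullback.snd f h).fiber t ⟶ X => φ q) he).symm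
  ext v
  constructor
  · rintro ⟨hv, hvt⟩
    obtain ⟨q, rfl⟩ : v ∈ Set.range ((pullback.snd f h).fiberι t) := ((pullback.snd f h).range_fiberι t).ge hvt
    refine ⟨e.hom q, ?_, congrArg (fun φ : (pullback.snd f h).fiber t ⟶ pullback f h => φ q)
      (e.hom_inv_id_assoc ((pullback.snd f h).fiberι t))⟩
    show _ ∈ comp f g (h t)
    rw [← hh]
    exact hv
  · rintro ⟨b, hb, rfl⟩
    obtain ⟨q, rfl⟩ := e.hom.homeomorph.surjective b
    have hq : (e.inv ≫ (pullback.snd f h).fiberι t) (e.hom q) = (pullback.snd f h).fiberι t q :=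
      congrArg (fun φ : (pullback.snd f h).fiber t ⟶ pullback f h => φ q)
        (e.hom_inv_id_assoc ((pullback.snd f h).fiberι t))
    refine ⟨?_, ((pullback.snd f h).range_fiberι t).le ⟨q, hq.symm⟩⟩
    show pullback.fst f h ((e.inv ≫ (pullback.snd f h).fiberι t) (e.hom q)) ∈ comp f g (h t)
    rw [hq, hh]
    exact hb

theorem trdAt_generic_sectionBC [LocallyOfFiniteType f] (t : S) (hC : IsIrreducible (comp f g (h t)))
    (hC' : IsIrreducible (comp (pullback.snd f h) (sectionBC f g hg h) t)) :
    topologicalKrullDim ↥(comp (pullback.snd f h) (sectionBC f g hg h) t) =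
      topologicalKrullDim ↥(comp f g (h t)) := by
  obtain ⟨η', hη', hgen', hmax'⟩ := exists_generic_comp _ _ (sectionBC_snd f g hg h) t hC'
  obtain ⟨η, hη, hgen, -⟩ := exists_generic_comp f g hg (h t) hC
  haveI : LocallyOfFiniteType (pullback.snd f h) := MorphismProperty.pullback_snd _ _ inferInstance
  rw [topologicalKrullDim_comp_eq _ _ (sectionBC_snd f g hg h) t hη' hgen',
    topologicalKrullDim_comp_eq f g hg (h t) hη hgen]
  have hη't : pullback.snd f h η' = t := comp_subset _ _ t hη'
  obtain ⟨h1, h2⟩ := trdAt_pullback_of_maximal f h η' fun w hw he => hmax' w hw (he.trans hη't)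
  have hη'' : pullback.fst f h η' ∈ comp f g (h t) := ((comp_sectionBC f g hg h t).le hη').1
  rw [h1, ← h2 η (hgen _ hη'') ((comp_subset f g _ hη).trans (comp_subset f g _ hη'').symm)]

/-- EGA IV 15.6.6 (i). -/
theorem isUnivOpenAt_of_dim_comp_const [IsLocallyNoetherian Y] [LocallyOfFiniteType f] (hg : g ≫ f = 𝟙 Y)
    (hgi : ∀ (z : Y) (K : Type u) [Field K] [Algebra (IsLocalRing.ResidueField (Y.presheaf.stalk z)) K],
      IsIrreducible ((FBase.bcπ (f.fiberToSpecResidueField z) K ≫ f.fiberι z).base ⁻¹' comp f g z))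
    (y : Y) (hc : ∀ y', y' ⤳ y → topologicalKrullDim ↥(comp f g y') = topologicalKrullDim ↥(comp f g y))
    {x : X} (hx : x ∈ comp f g y) : EGA43.IsUnivOpenAt f x := by
  refine (UnivOpen.isUnivOpenAt_iff_dvr f x).2 fun A _ _ _ m hm x' hx' hs => ?_
  have hxy := comp_subset f g y hx
  have hirr : ∀ z, IsIrreducible (comp f g z) := fun z => isIrreducible_comp_of_geom f g z (hgi z _)
  have hirr' := fun t => isIrreducible_comp_sectionBC f g hg m hgi t
  let b : ↥(Spec (CommRingCat.of A)) := (⟨⊥, Ideal.isPrime_bot⟩ : PrimeSpectrum A)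
  have hba : b ⤳ closedPoint A := (PrimeSpectrum.le_iff_specializes _ _).1 bot_le
  have hma : m (closedPoint A) = y := hm.trans hxy
  have hbd : topologicalKrullDim ↥(comp (pullback.snd f m) (sectionBC f g hg m) (closedPoint A)) =
      topologicalKrullDim ↥(comp (pullback.snd f m) (sectionBC f g hg m) b) := by
    rw [trdAt_generic_sectionBC f g hg m _ (hirr _) (hirr' _), trdAt_generic_sectionBC f g hg m _ (hirr _) (hirr' _),
      hma, hc (m b) (hma ▸ hba.map m.continuous)]
  haveI : LocallyOfFiniteType (pullback.snd f m) := MorphismProperty.pullback_snd _ _ inferInstance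
  haveI : IsLocallyNoetherian (Spec (CommRingCat.of A)) := inferInstance
  have hsub := (dim_comp_le_of_irreducible (pullback.snd f m) (sectionBC f g hg m) (sectionBC_snd f g hg m) hba
    (hirr' b)).2 (hirr' _) hbd
  have hx'C : x' ∈ comp (pullback.snd f m) (sectionBC f g hg m) (closedPoint A) := by
    rw [comp_sectionBC]
    exact ⟨by show pullback.fst f m x' ∈ comp f g _; rw [hx', hma]; exact hx, hs⟩
  obtain ⟨η, hη, hgen, -⟩ := exists_generic_comp _ _ (sectionBC_snd f g hg m) b (hirr' b)
  refine ⟨η, specializes_iff_mem_closure.2 ?_, ?_⟩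
  · exact closure_minimal (fun v hv => specializes_iff_mem_closure.1 (hgen v hv)) isClosed_closure (hsub hx'C)
  · rw [comp_subset _ _ b hη]
    exact fun e => IsDiscreteValuationRing.not_a_field A (congrArg PrimeSpectrum.asIdeal e).symm

end Groth.Agent.EGA43.SectionComp
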