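import Groth.Agent.EGA43.SectionComp.GeomIrr
import Groth.Agent.EGA43.SectionComp.UnivOpen
import Groth.Agent.EGA43.SectionComp.SpecializeOpen
import Groth.Agent.EGA43.OpenAt
import Groth.Agent.EGA43.Chevalley.Open
import Groth.Agent.FlatMorApprox.Refine

/-!
# EGA IV 15.6.6 (i) for morphisms of finite presentation
-/

set_option autoImplicit false
set_option backward.isDefEq.respectTransparency false
set_option linter.style.haveILetI false

universe u

open CategoryTheory CategoryTheory.Limits AlgebraicGeometry TopologicalSpace IsLocalRing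

namespace Groth.Agent.EGA43.SectionComp

open Groth.Agent Groth.Agent.EGA43.DimFormula

variable {X Y : Scheme.{u}}

theorem dim_comp_eq_fibreDimAt (f : X ⟶ Y) (g : Y ⟶ X) [LocallyOfFiniteType f] (hg : g ≫ f = 𝟙 Y) (z : Y)
    (h : IsGeomIrrComp f g z) : topologicalKrullDim ↥(comp f g z) = FlatMor.fibreDimAt f (g z) :=
  (fibreDimAt_eq_dim_comp f g hg z (isIrreducible_comp_of_geom f g z (h _)) (mem_comp_self f g hg z)).symm

theorem isConstructible_good [IsLocallyNoetherian Y] [CompactSpace Y] (f : X ⟶ Y) (g : Y ⟶ X)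
    [LocallyOfFiniteType f] [QuasiCompact f] (hg : g ≫ f = 𝟙 Y) (n : ℕ) :
    Topology.IsConstructible {z : Y | IsGeomIrrComp f g z ∧
      topologicalKrullDim ↥(comp f g z) = (n : WithBot ℕ∞)} := by
  haveI : IsNoetherian Y := {}
  have hopen : ∀ U : Set Y, IsOpen U → Topology.IsConstructible U := fun U hU =>
    ((NoetherianSpace.isCompact U).isRetrocompact hU).isConstructible hU
  have hle : ∀ m : ℕ, Topology.IsConstructible (g.base ⁻¹' {x | FlatMor.fibreDimAt f x ≤ (m : WithBot ℕ∞)}) :=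
    fun m => hopen _ ((FlatMorDim.isOpen_fibreDimAt_le f m).preimage g.continuous)
  have hgi := isConstructible_isGeomIrrComp f g hg
  rcases n with _ | k
  · convert hgi.inter (hle 0) using 1
    ext z
    simp only [Set.mem_inter_iff, Set.mem_ofPred_eq, Set.mem_preimage]
    refine and_congr_right fun h => ⟨fun e => (dim_comp_eq_fibreDimAt f g hg z h).symm.trans_le e.le, fun e => ?_⟩
    obtain ⟨η, hη, hgen, -⟩ := exists_generic_comp f g hg z (isIrreducible_comp_of_geom f g z (h _))
    have hd := topologicalKrullDim_comp_eq f g hg z hη hgen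
    rw [← dim_comp_eq_fibreDimAt f g hg z h, hd] at e
    rw [hd]
    have : trdAt f η ≤ 0 := by exact_mod_cast e
    exact_mod_cast Nat.le_zero.1 this
  · convert (hgi.inter (hle (k + 1))).sdiff (hle k) using 1
    ext z
    simp only [Set.mem_sdiff, Set.mem_inter_iff, Set.mem_ofPred_eq, Set.mem_preimage, and_assoc]
    refine and_congr_right fun h => ?_
    obtain ⟨η, hη, hgen, -⟩ := exists_generic_comp f g hg z (isIrreducible_comp_of_geom f g z (h _))
    rw [← dim_comp_eq_fibreDimAt f g hg z h, topologicalKrullDim_comp_eq f g hg z hη hgen]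
    simp only [Nat.cast_inj, Nat.cast_le]
    omega

theorem dim_comp_eq_of_isPullback {X' Y' : Scheme.{u}} (f : X ⟶ Y) (g : Y ⟶ X) (f' : X' ⟶ Y') (g' : Y' ⟶ X')
    (a : X' ⟶ X) (h : Y' ⟶ Y) [LocallyOfFiniteType f] (sq : IsPullback a f' f h) (hg : g ≫ f = 𝟙 Y)
    (hg' : g' ≫ f' = 𝟙 Y') (hga : g' ≫ a = h ≫ g) (t : Y') (hi : IsGeomIrrComp f g (h t)) :
    topologicalKrullDim ↥(comp f' g' t) = topologicalKrullDim ↥(comp f g (h t)) := by
  haveI : LocallyOfFiniteType (pullback.snd f h) := MorphismProperty.pullback_snd _ _ inferInstance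
  have hi2 : IsGeomIrrComp (pullback.snd f h) (sectionBC f g hg h) t :=
    (isGeomIrrComp_baseChange_iff f g _ _ _ h (IsPullback.of_hasPullback f h) hg (sectionBC_snd f g hg h)
      (sectionBC_fst f g hg h) t).2 hi
  rw [← trdAt_generic_sectionBC f g hg h t (isIrreducible_comp_of_geom f g _ (hi _))
    (isIrreducible_comp_of_geom _ _ _ (hi2 _))]
  let e := sq.isoPullback
  have hsec : g' ≫ e.hom = sectionBC f g hg h := by
    apply pullback.hom_ext
    · rw [Category.assoc, sq.isoPullback_hom_fst, hga, sectionBC_fst]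
    · rw [Category.assoc, sq.isoPullback_hom_snd, hg', sectionBC_snd]
  have hef : ∀ x, pullback.snd f h (e.hom.homeomorph x) = f' x := fun x =>
    congrArg (fun φ : X' ⟶ Y' => φ x) sq.isoPullback_hom_snd
  have hes : ∀ y, e.hom.homeomorph (g' y) = sectionBC f g hg h y := fun y =>
    congrArg (fun φ : Y' ⟶ pullback f h => φ y) hsec
  have heq : e.hom.homeomorph '' comp f' g' t = comp (pullback.snd f h) (sectionBC f g hg h) t := by
    have hset : f'.base ⁻¹' {t} = e.hom.homeomorph ⁻¹' ((pullback.snd f h).base ⁻¹' {t}) := by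
      ext x
      simp only [Set.mem_preimage, Set.mem_singleton_iff]
      rw [hef]
    rw [comp, comp, e.hom.homeomorph.image_connectedComponentIn (apply_section f' g' hg' t), hset,
      Homeomorph.image_preimage, hes]
  exact ((e.hom.homeomorph.image (comp f' g' t)).trans (Homeomorph.setCongr heq)).isHomeomorph.topologicalKrullDim_eq

/-- The universal family over the source of a model. -/
theorem exists_good_model [IsAffine X] [IsAffine Y] (f : X ⟶ Y) [LocallyOfFinitePresentation f]
    (g : Y ⟶ X) (hg : g ≫ f = 𝟙 Y) (hgi : ∀ z, IsGeomIrrComp f g z) (n : ℕ)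
    (hd : ∀ z, topologicalKrullDim ↥(comp f g z) = (n : WithBot ℕ∞)) :
    ∃ (A₁ : Type u) (_ : CommRing A₁) (_ : IsNoetherianRing A₁) (X₁ : Scheme.{u})
      (f₁ : X₁ ⟶ Spec (CommRingCat.of A₁)) (a₁ : X ⟶ X₁) (b : Y ⟶ Spec (CommRingCat.of A₁)),
      LocallyOfFiniteType f₁ ∧ IsPullback a₁ f f₁ b ∧ (AlgebraicGeometry.IsReduced Y → _root_.IsReduced A₁) ∧
        ∀ (z : Y) (x : X), x ∈ comp f g z → EGA43.IsUnivOpenAt f₁ (a₁ x) := by
  obtain ⟨A₀, B₀, φ, gS, gX, hφ, hA, sq⟩ := FlatMorApprox.exists_pullback_model f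
  haveI : LocallyOfFinitePresentation (Spec.map φ) := HasRingHomProperty.Spec_iff.2 hφ
  let σ : Y ⟶ Spec B₀ := g ≫ gX
  let fP := pullback.snd (Spec.map φ) (Spec.map φ)
  let sP : Spec B₀ ⟶ pullback (Spec.map φ) (Spec.map φ) := pullback.diagonal (Spec.map φ)
  have hsP : sP ≫ fP = 𝟙 _ := pullback.diagonal_snd _
  have hσ : σ ≫ Spec.map φ = gS := by
    rw [Category.assoc, sq.w, ← Category.assoc, hg, Category.id_comp]
  let a : X ⟶ pullback (Spec.map φ) (Spec.map φ) := pullback.lift gX (f ≫ σ) (by rw [Category.assoc, hσ, sq.w])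
  have sqa : IsPullback a f fP σ := by
    refine IsPullback.of_right ?_ (pullback.lift_snd _ _ _) (IsPullback.of_hasPullback (Spec.map φ) (Spec.map φ))
    rw [pullback.lift_fst, hσ]
    exact sq
  have hga : g ≫ a = σ ≫ sP := by
    apply pullback.hom_ext
    · rw [Category.assoc, pullback.lift_fst, Category.assoc, pullback.diagonal_fst, Category.comp_id]
    · rw [Category.assoc, pullback.lift_snd, ← Category.assoc, hg, Category.id_comp, Category.assoc,
        pullback.diagonal_snd, Category.comp_id]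
  haveI : LocallyOfFinitePresentation fP :=
    MorphismProperty.pullback_snd (P := @LocallyOfFinitePresentation.{u}) _ _ inferInstance
  haveI : QuasiCompact fP := MorphismProperty.pullback_snd _ _ inferInstance
  have hB : (algebraMap ℤ B₀).FiniteType := by
    have := (RingHom.FiniteType.comp (RingHom.FiniteType.of_finitePresentation hφ) hA)
    rwa [RingHom.ext_int (φ.hom.comp (algebraMap ℤ A₀)) (algebraMap ℤ B₀)] at this
  haveI : Algebra.FiniteType ℤ B₀ := RingHom.finiteType_algebraMap.1 hB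
  haveI : IsNoetherianRing B₀ := Algebra.FiniteType.isNoetherianRing ℤ _
  haveI : IsLocallyNoetherian (Spec B₀) := inferInstance
  have hC := isConstructible_good fP sP hsP n
  obtain ⟨ι, hι⟩ := Spec.map_surjective (Y.isoSpec.inv ≫ σ)
  have hgiP : ∀ t, IsGeomIrrComp fP sP (σ t) := fun t =>
    (isGeomIrrComp_baseChange_iff fP sP f g a σ sqa hsP hg hga t).1 (hgi t)
  obtain ⟨A', _, α', β', hαβ', hA', hall'⟩ := FlatMorApprox.exists_fg_refinement ι.hom hB _ hC (fun p => by
    have hp : σ (Y.isoSpec.inv p) = PrimeSpectrum.comap ι.hom p := by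
      show (Y.isoSpec.inv ≫ σ) p = _
      rw [← hι]
      rfl
    rw [← hp]
    exact ⟨hgiP _, (dim_comp_eq_of_isPullback fP sP f g a σ sqa hsP hg hga _ (hgiP _)).symm.trans (hd _)⟩)
  let A₁ := β'.range
  let α : B₀ →+* A₁ := β'.rangeRestrict.comp α'
  let β : A₁ →+* Γ(Y, ⊤) := A₁.subtype
  have hαβ : β.comp α = ι.hom := RingHom.ext fun c => (RingHom.congr_fun hαβ' c :)
  have hA₁ : (algebraMap ℤ A₁).FiniteType := by
    have := (RingHom.FiniteType.of_surjective _ β'.rangeRestrict_surjective).comp hA'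
    rwa [RingHom.ext_int (β'.rangeRestrict.comp (algebraMap ℤ A')) (algebraMap ℤ A₁)] at this
  have hall : ∀ p : PrimeSpectrum A₁, IsGeomIrrComp fP sP (PrimeSpectrum.comap α p) ∧
      topologicalKrullDim ↥(comp fP sP (PrimeSpectrum.comap α p)) = (n : WithBot ℕ∞) :=
    fun p => hall' (PrimeSpectrum.comap β'.rangeRestrict p)
  let m : Spec (CommRingCat.of A₁) ⟶ Spec B₀ := Spec.map (CommRingCat.ofHom α)
  let b : Y ⟶ Spec (CommRingCat.of A₁) := Y.isoSpec.hom ≫ Spec.map (CommRingCat.ofHom β)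
  have hbm : b ≫ m = σ := by
    simp only [b, m, Category.assoc, ← Spec.map_comp, ← CommRingCat.ofHom_comp, hαβ,
      CommRingCat.ofHom_hom, hι, Iso.hom_inv_id_assoc]
  haveI : Algebra.FiniteType ℤ A₁ := RingHom.finiteType_algebraMap.1 hA₁
  haveI : IsNoetherianRing A₁ := Algebra.FiniteType.isNoetherianRing ℤ _
  haveI : IsLocallyNoetherian (Spec (CommRingCat.of A₁)) := inferInstance
  let f₁ := pullback.snd fP m
  let s₁ := sectionBC fP sP hsP m
  haveI : LocallyOfFiniteType f₁ := MorphismProperty.pullback_snd _ _ inferInstance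
  have hgi₁ : ∀ t, IsGeomIrrComp f₁ s₁ t := fun t =>
    (isGeomIrrComp_baseChange_iff fP sP f₁ s₁ _ m (IsPullback.of_hasPullback fP m) hsP (sectionBC_snd _ _ hsP m)
      (sectionBC_fst _ _ hsP m) t).2 (hall t).1
  have hd₁ : ∀ t, topologicalKrullDim ↥(comp f₁ s₁ t) = (n : WithBot ℕ∞) := fun t =>
    (dim_comp_eq_of_isPullback fP sP f₁ s₁ _ m (IsPullback.of_hasPullback fP m) hsP (sectionBC_snd _ _ hsP m)
      (sectionBC_fst _ _ hsP m) t (hall t).1).trans (hall t).2
  let a₁ : X ⟶ pullback fP m := pullback.lift a (f ≫ b) (by rw [Category.assoc, hbm, sqa.w])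
  have sq₁ : IsPullback a₁ f f₁ b := by
    refine IsPullback.of_right ?_ (pullback.lift_snd _ _ _) (IsPullback.of_hasPullback fP m)
    rw [pullback.lift_fst, hbm]
    exact sqa
  have hga₁ : g ≫ a₁ = b ≫ s₁ := by
    apply pullback.hom_ext
    · rw [Category.assoc, pullback.lift_fst, hga, Category.assoc b s₁, sectionBC_fst, ← Category.assoc b, hbm]
    · rw [Category.assoc, pullback.lift_snd, ← Category.assoc, hg, Category.id_comp, Category.assoc,
        sectionBC_snd, Category.comp_id]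
  refine ⟨A₁, inferInstance, inferInstance, pullback fP m, f₁, a₁, b, inferInstance, sq₁,
    fun _ => isReduced_of_injective A₁.subtype Subtype.val_injective, fun z x hx => ?_⟩
  have hx₁ : a₁ x ∈ comp f₁ s₁ (b z) := by
    have hSC := FlatMorSection.sectionComponents_baseChange f₁ s₁ (sectionBC_snd _ _ hsP m) f a₁ b sq₁ g hg hga₁
    have hx' := mem_sectionComponents_of_mem f g hx
    rw [hSC, Set.mem_preimage, mem_sectionComponents_iff] at hx'
    rwa [show f₁ (a₁ x) = b z from (congrArg (fun k : X ⟶ Spec (CommRingCat.of A₁) => k x) sq₁.w).trans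
      (congrArg b (comp_subset f g z hx))] at hx'
  exact isUnivOpenAt_of_dim_comp_const f₁ s₁ (sectionBC_snd _ _ hsP m)
    (fun t K _ _ => hgi₁ t K) (b z) (fun y' _ => (hd₁ y').trans (hd₁ _).symm) hx₁

theorem isUnivOpenAt_comp_of_affine [IsAffine X] [IsAffine Y] (f : X ⟶ Y) [LocallyOfFinitePresentation f]
    (g : Y ⟶ X) (hg : g ≫ f = 𝟙 Y) (hgi : ∀ z, IsGeomIrrComp f g z) (n : ℕ)
    (hd : ∀ z, topologicalKrullDim ↥(comp f g z) = (n : WithBot ℕ∞)) (z : Y) {x : X} (hx : x ∈ comp f g z) :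
    EGA43.IsUnivOpenAt f x := by
  obtain ⟨A₁, _, _, X₁, f₁, a₁, b, _, sq, -, h⟩ := exists_good_model f g hg hgi n hd
  exact isUnivOpenAt_of_isPullback (h z x hx) sq rfl

end Groth.Agent.EGA43.SectionComp
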