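import Groth.Agent.EGA43.DvrCrit.Equidim
import Groth.Agent.EGA43.CMChart.Main

/-!
# EGA IV 15.5: connectedness of the generic fibre over a DVR
-/

set_option autoImplicit false
set_option backward.isDefEq.respectTransparency false
set_option linter.style.haveILetI false

universe u

open CategoryTheory CategoryTheory.Limits AlgebraicGeometry IsLocalRing TopologicalSpace

namespace Groth.Agent.EGA43.SectionComp

open Groth.Agent Groth.Agent.EGA43.DimFormula Groth.Agent.EGA43.DvrCrit FlatMorWeight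

/-- Two families of components of a reduced special fibre meet off the special fibre. -/
theorem minimalPrimes_linked {R : Type u} [CommRing R] [IsLocalRing R] [IsNoetherianRing R] (π : R)
    (hπ : π ∈ maximalIdeal R) (hred : _root_.IsReduced (R ⧸ Ideal.span {π}))
    (hmin : ∀ P ∈ minimalPrimes R, π ∉ P) (S : Set (Ideal R)) (hS : S ⊆ minimalPrimes R)
    (h1 : S.Nonempty) (h2 : (minimalPrimes R \ S).Nonempty) :
    ∃ P ∈ S, ∃ P' ∈ minimalPrimes R \ S, ∃ q : PrimeSpectrum R, π ∉ q.asIdeal ∧ P ≤ q.asIdeal ∧ P' ≤ q.asIdeal := by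
  classical
  by_contra hno
  push Not at hno
  have hfin : (minimalPrimes R).Finite := minimalPrimes.finite_of_isNoetherianRing R
  have hdiv : ∀ a : R, IsNilpotent (Ideal.Quotient.mk (Ideal.span {π}) a) → ∃ m, a = π * m := fun a ha =>
    Ideal.mem_span_singleton'.1 (Ideal.Quotient.eq_zero_iff_mem.1 (hred.eq_zero _ ha)) |>.imp fun m hm => by
      rw [← hm, mul_comm]
  have hnil : nilradical R = ⊥ := by
    refine Submodule.eq_bot_of_le_smul_of_le_jacobson_bot (Ideal.span {π}) (nilradical R)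
      (IsNoetherian.noetherian _) (fun a ha => ?_)
      (by rw [jacobson_eq_maximalIdeal ⊥ bot_ne_top, Ideal.span_singleton_le_iff_mem]; exact hπ)
    obtain ⟨m, rfl⟩ := hdiv a ((mem_nilradical.1 ha).map _)
    refine Submodule.smul_mem_smul (Ideal.mem_span_singleton_self π) ?_
    rw [nilradical, Ideal.zero_eq_bot, ← Ideal.sInf_minimalPrimes (I := (⊥ : Ideal R)), Submodule.mem_sInf]
    intro P hP
    refine (hP.1.1.mem_or_mem ?_).resolve_left (hmin P hP)
    rw [nilradical, Ideal.zero_eq_bot, ← Ideal.sInf_minimalPrimes (I := (⊥ : Ideal R))] at ha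
    exact Ideal.mem_sInf.1 ha hP
  have hSfin : S.Finite := hfin.subset hS
  have hTfin : (minimalPrimes R \ S).Finite := hfin.subset Set.sdiff_subset
  let I : Ideal R := sInf S
  let J : Ideal R := sInf (minimalPrimes R \ S)
  have hzero : ∀ i ∈ I, ∀ j ∈ J, i * j = 0 := fun i hi j hj => by
    have : i * j ∈ nilradical R := by
      rw [nilradical, Ideal.zero_eq_bot, ← Ideal.sInf_minimalPrimes (I := (⊥ : Ideal R)), Ideal.mem_sInf]
      intro P hP
      by_cases hPS : P ∈ S
      · exact P.mul_mem_right j (Ideal.mem_sInf.1 hi hPS)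
      · exact P.mul_mem_left i (Ideal.mem_sInf.1 hj ⟨hP, hPS⟩)
    rwa [hnil] at this
  have hrad : π ∈ (I ⊔ J).radical := by
    rw [Ideal.radical_eq_sInf, Ideal.mem_sInf]
    rintro q ⟨hq, hqp⟩
    by_contra hπq
    haveI := hqp
    obtain ⟨P, hP, hPq⟩ : ∃ P ∈ hSfin.toFinset, id P ≤ q := hqp.inf_le'.1
      ((le_of_eq (by rw [Finset.inf_id_eq_sInf, Set.Finite.coe_toFinset])).trans (le_sup_left.trans hq))
    obtain ⟨P', hP', hP'q⟩ : ∃ P' ∈ hTfin.toFinset, id P' ≤ q := hqp.inf_le'.1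
      ((le_of_eq (by rw [Finset.inf_id_eq_sInf, Set.Finite.coe_toFinset])).trans (le_sup_right.trans hq))
    exact hno P (hSfin.mem_toFinset.1 hP) P' (hTfin.mem_toFinset.1 hP') ⟨q, hqp⟩ hπq hPq hP'q
  obtain ⟨n, hn⟩ := hrad
  have key : ∀ n : ℕ, π ^ n ∉ I ⊔ J := by
    intro n
    induction n with
    | zero =>
      rw [pow_zero, ← Ideal.eq_top_iff_one]
      refine ne_top_of_le_ne_top (maximalIdeal.isMaximal R).ne_top (sup_le ?_ ?_)
      · obtain ⟨P, hP⟩ := h1
        exact (sInf_le hP).trans (le_maximalIdeal (hS hP).1.1.ne_top)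
      · obtain ⟨P, hP⟩ := h2
        exact (sInf_le hP).trans (le_maximalIdeal hP.1.1.1.ne_top)
    | succ n ih =>
      intro h
      obtain ⟨i, hi, j, hj, hij⟩ := Submodule.mem_sup.1 h
      have hi2 : i ^ 2 = π * (π ^ n * i) := by
        have h := congrArg (i * ·) hij
        simp only [mul_add, hzero i hi j hj, add_zero] at h
        rw [sq, h]; ring
      have hj2 : j ^ 2 = π * (π ^ n * j) := by
        have h := congrArg (j * ·) hij
        simp only [mul_add, mul_comm j i, hzero i hi j hj, zero_add] at h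
        rw [sq, h]; ring
      obtain ⟨i', rfl⟩ := hdiv i ⟨2, by
        rw [← map_pow, Ideal.Quotient.eq_zero_iff_mem, hi2]
        exact Ideal.mul_mem_right _ _ (Ideal.mem_span_singleton_self π)⟩
      obtain ⟨j', rfl⟩ := hdiv j ⟨2, by
        rw [← map_pow, Ideal.Quotient.eq_zero_iff_mem, hj2]
        exact Ideal.mul_mem_right _ _ (Ideal.mem_span_singleton_self π)⟩
      refine ih ?_
      have hreg : ∀ a : R, π * a = 0 → a = 0 := fun a ha => by
        have : a ∈ nilradical R := by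
          rw [nilradical, Ideal.zero_eq_bot, ← Ideal.sInf_minimalPrimes (I := (⊥ : Ideal R)), Ideal.mem_sInf]
          exact fun P hP => (hP.1.1.mem_or_mem (ha.symm ▸ P.zero_mem)).resolve_left (hmin P hP)
        rwa [hnil] at this
      have h3 : π ^ n = i' + j' := sub_eq_zero.1 (hreg _ (by
        rw [mul_sub, mul_add, hij, pow_succ]; ring))
      rw [h3]
      refine Submodule.add_mem_sup (Ideal.mem_sInf.2 fun {P} hP => ?_) (Ideal.mem_sInf.2 fun {P} hP => ?_)
      · exact ((hS hP).1.1.mem_or_mem (Ideal.mem_sInf.1 hi hP)).resolve_left (hmin P (hS hP))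
      · exact (hP.1.1.1.mem_or_mem (Ideal.mem_sInf.1 hj hP)).resolve_left (hmin P hP.1)
  exact key n hn

/-- A point of a locally Noetherian scheme has a maximal generization inside any open around it. -/
theorem exists_maximal_mem {X : Scheme.{u}} {U : Set X} (hU : IsOpen U) {u : X} (hu : u ∈ U) :
    ∃ ξ, IsMaximalPt ξ ∧ ξ ⤳ u ∧ ξ ∈ U := by
  obtain ⟨P, hP, -⟩ := Ideal.exists_minimalPrimes_le (I := (⊥ : Ideal (X.presheaf.stalk u)))
    (J := maximalIdeal _) bot_le
  exact ⟨toPt u ⟨P, hP.1.1⟩, (mem_minimalPrimes_iff u ⟨P, hP.1.1⟩).1 hP, toPt_specializes u _,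
    (toPt_specializes u _).mem_open hU hu⟩

variable {A : Type u} [CommRing A] [IsDomain A] [IsDiscreteValuationRing A]

theorem eq_of_ne_closedPoint (b z : PrimeSpectrum A) (hb : b ≠ closedPoint A) (hz : z ≠ closedPoint A) :
    b = z := by
  have h : ∀ c : PrimeSpectrum A, c ≠ closedPoint A → c.asIdeal = ⊥ := fun c hc => by
    by_contra h0
    exact hc (PrimeSpectrum.ext (eq_maximalIdeal (c.isPrime.isMaximal h0)))
  exact PrimeSpectrum.ext ((h b hb).trans (h z hz).symm)

/-- EGA IV 15.5: open morphism to a DVR with reduced special fibre and connected source. -/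
theorem preconnected_generic_fiber {X : Scheme.{u}} (f : X ⟶ Spec (CommRingCat.of A)) [LocallyOfFiniteType f]
    (hopen : IsOpenMap f.base) [PreconnectedSpace X] (b : ↥(Spec (CommRingCat.of A))) (hb : b ≠ closedPoint A)
    (hred : ∀ x : X, f x = closedPoint A → _root_.IsReduced ((f.fiber (f x)).presheaf.stalk (f.asFiber x))) :
    PreconnectedSpace ↥(f.fiber b) := by
  classical
  haveI : IsLocallyNoetherian X := LocallyOfFiniteType.isLocallyNoetherian f
  have hU₀ : IsOpen (f.base ⁻¹' {b}) := by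
    have : ({closedPoint A}ᶜ : Set (PrimeSpectrum A)) = {b} :=
      Set.ext fun z => ⟨fun hz => eq_of_ne_closedPoint z b hz hb, fun hz => hz ▸ hb⟩
    exact (this ▸ (PrimeSpectrum.isClosed_singleton_iff_isMaximal (closedPoint A) |>.2
      (maximalIdeal.isMaximal A)).isOpen_compl).preimage f.continuous
  have hmaxb : ∀ ξ : X, IsMaximalPt ξ → f ξ = b := by
    intro ξ hξ
    by_contra hne
    have hξa : f ξ = closedPoint A := by
      by_contra h
      exact hne (eq_of_ne_closedPoint (f ξ) b h hb)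
    obtain ⟨U, hξU, hU⟩ := exists_open_components_through ξ
    have himg : f.base '' (U : Set X) ⊆ {closedPoint A} := by
      rintro _ ⟨u, hu, rfl⟩
      obtain ⟨η, hη, hηu, hηU⟩ := exists_maximal_mem U.isOpen hu
      have hηξ := hU η hηU hη
      have : η = ξ := (hξ η hηξ).symm ▸ rfl
      subst this
      by_contra h
      have h2 : f η ⤳ f u := hηu.map f.continuous
      rw [hξa] at h2
      exact h (h2.mem_closed ((PrimeSpectrum.isClosed_singleton_iff_isMaximal (closedPoint A)).2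
        (maximalIdeal.isMaximal A)) rfl)
    obtain ⟨v, hv⟩ := Set.Nonempty.mono (Set.subset_univ {b}) ⟨b, rfl⟩
    have hopU := hopen _ U.isOpen
    have hbs : b ⤳ closedPoint A := (PrimeSpectrum.le_iff_specializes _ _).1 (le_maximalIdeal b.isPrime.ne_top)
    exact hb (himg (hbs.mem_open hopU ⟨ξ, hξU, hξa⟩))
  have hemb : Topology.IsOpenEmbedding (f.fiberι b).base :=
    ⟨(f.fiberι b).isEmbedding, by rw [f.range_fiberι]; exact hU₀⟩
  rw [preconnectedSpace_iff_clopen]
  intro U hUc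
  by_contra hcon
  simp only [not_or, ← Set.nonempty_iff_ne_empty] at hcon
  obtain ⟨⟨u, hu⟩, hne⟩ := hcon
  obtain ⟨u', hu'⟩ := (Set.ne_univ_iff_exists_notMem _).1 hne
  let V : Set X := (f.fiberι b).base '' U
  let V' : Set X := (f.fiberι b).base '' Uᶜ
  have hV : IsOpen V := hemb.isOpenMap _ hUc.isOpen
  have hV' : IsOpen V' := hemb.isOpenMap _ hUc.compl.isOpen
  have hVV : ∀ z, z ∈ V → z ∈ V' → False := by
    rintro _ ⟨p, hp, rfl⟩ ⟨p', hp', he⟩
    exact hp' (hemb.injective he ▸ hp)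
  have hcov : ∀ z, f z = b → z ∈ V ∨ z ∈ V' := fun z hz => by
    obtain ⟨p, rfl⟩ : z ∈ Set.range (f.fiberι b) := (f.range_fiberι b).ge hz
    by_cases hp : p ∈ U
    · exact Or.inl ⟨p, hp, rfl⟩
    · exact Or.inr ⟨p, hp, rfl⟩
  have hclcov : closure V ∪ closure V' = Set.univ := Set.eq_univ_of_forall fun z => by
    obtain ⟨ξ, hξ, hξz, -⟩ := exists_maximal_mem isOpen_univ (Set.mem_univ z)
    rcases hcov ξ (hmaxb ξ hξ) with h | h
    · exact Or.inl (closure_mono (Set.singleton_subset_iff.2 h) (specializes_iff_mem_closure.1 hξz))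
    · exact Or.inr (closure_mono (Set.singleton_subset_iff.2 h) (specializes_iff_mem_closure.1 hξz))
  obtain ⟨x, -, hx, hx'⟩ := isPreconnected_closed_iff.1 (PreconnectedSpace.isPreconnected_univ (α := X))
    _ _ isClosed_closure isClosed_closure hclcov.ge
    ⟨_, trivial, subset_closure ⟨u, hu, rfl⟩⟩ ⟨_, trivial, subset_closure ⟨u', hu', rfl⟩⟩
  have hxa : f x = closedPoint A := by
    by_contra h
    rcases hcov x (eq_of_ne_closedPoint (f x) b h hb) with h' | h'
    · obtain ⟨z, hz, hz'⟩ := mem_closure_iff.1 hx' V hV h'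
      exact hVV z hz hz'
    · obtain ⟨z, hz', hz⟩ := mem_closure_iff.1 hx V' hV' h'
      exact hVV z hz hz'
  obtain ⟨W, hxW, hW⟩ := exists_open_components_through x
  have hgen : ∀ O : Set X, IsOpen O → x ∈ closure O → ∃ P : PrimeSpectrum (X.presheaf.stalk x),
      P.asIdeal ∈ minimalPrimes _ ∧ toPt x P ∈ O := by
    intro O hO hxO
    obtain ⟨z, hzW, hzO⟩ := mem_closure_iff.1 hxO W W.isOpen hxW
    obtain ⟨ξ, hξ, -, hξW, hξO⟩ := exists_maximal_mem (W.isOpen.inter hO) ⟨hzW, hzO⟩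
    obtain ⟨P, rfl⟩ := exists_toPt (hW ξ hξW hξ)
    exact ⟨P, (mem_minimalPrimes_iff x P).2 hξ, hξO⟩
  obtain ⟨P₁, hP₁, hP₁V⟩ := hgen V hV hx
  obtain ⟨P₂, hP₂, hP₂V⟩ := hgen V' hV' hx'
  haveI := isNoetherianRing_stalk f x
  obtain ⟨ϖ, hϖ⟩ := IsDiscreteValuationRing.exists_irreducible A
  let φ : A →+* (Spec (CommRingCat.of A)).presheaf.stalk (f x) :=
    (StructureSheaf.toStalk A (f x)).hom
  let π : X.presheaf.stalk x := (f.stalkMap x).hom (φ ϖ)
  have hm : (maximalIdeal ((Spec (CommRingCat.of A)).presheaf.stalk (f x))).map (f.stalkMap x).hom =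
      Ideal.span {π} := by
    letI : Algebra A ((Spec (CommRingCat.of A)).presheaf.stalk (f x)) := φ.toAlgebra
    haveI : IsLocalization.AtPrime ((Spec (CommRingCat.of A)).presheaf.stalk (f x))
        (PrimeSpectrum.asIdeal (f x : PrimeSpectrum A)) := StructureSheaf.IsLocalization.to_stalk A (f x)
    have h1 := IsLocalization.AtPrime.map_eq_maximalIdeal (PrimeSpectrum.asIdeal (f x : PrimeSpectrum A))
      ((Spec (CommRingCat.of A)).presheaf.stalk (f x))
    rw [← h1, show PrimeSpectrum.asIdeal (f x : PrimeSpectrum A) = maximalIdeal A from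
      congrArg PrimeSpectrum.asIdeal hxa, hϖ.maximalIdeal_eq, Ideal.map_span, Set.image_singleton,
      Ideal.map_span, Set.image_singleton]
    rfl
  have hπ : π ∈ maximalIdeal (X.presheaf.stalk x) := by
    have h := Ideal.mem_span_singleton_self π
    rw [← hm] at h
    exact (Ideal.map_le_iff_le_comap (K := maximalIdeal (X.presheaf.stalk x))).2
      (fun c hc => map_nonunit (f.stalkMap x).hom c hc) h
  have hfib : ∀ q : PrimeSpectrum (X.presheaf.stalk x), π ∈ q.asIdeal ↔ f (toPt x q) = f x := fun q => by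
    rw [← mem_fibre_iff_le f x q, hm, Ideal.span_singleton_le_iff_mem]
  haveI : _root_.IsReduced (X.presheaf.stalk x ⧸ Ideal.span {π}) := by
    obtain ⟨e⟩ := CMChart.exists_fibre_stalk_equiv f x
    haveI := hred x hxa
    haveI := isReduced_of_injective e.toRingHom e.injective
    exact isReduced_of_injective (Ideal.quotEquivOfEq hm.symm).toRingHom (Ideal.quotEquivOfEq hm.symm).injective
  let S : Set (Ideal (X.presheaf.stalk x)) :=
    {P | ∃ h : P.IsPrime, P ∈ minimalPrimes _ ∧ toPt x ⟨P, h⟩ ∈ V}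
  obtain ⟨P, ⟨hPp, -, hPV⟩, P', ⟨hP'm, hP'S⟩, q, hq, hPq, hP'q⟩ := minimalPrimes_linked π hπ ‹_›
    (fun P hP hπP => hb ((hmaxb _ ((mem_minimalPrimes_iff x ⟨P, hP.1.1⟩).1 hP)).symm.trans
      (((hfib ⟨P, hP.1.1⟩).1 hπP).trans hxa)))
    S (fun P hP => hP.2.1) ⟨_, P₁.isPrime, hP₁, hP₁V⟩
    ⟨_, hP₂, fun ⟨_, _, h⟩ => hVV _ h hP₂V⟩
  haveI := hP'm.1.1
  have hP'V : toPt x ⟨P', hP'm.1.1⟩ ∈ V' :=
    (hcov _ (hmaxb _ ((mem_minimalPrimes_iff x ⟨P', hP'm.1.1⟩).1 hP'm))).resolve_left fun h => hP'S ⟨hP'm.1.1, hP'm, h⟩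
  have hqb : f (toPt x q) = b :=
    eq_of_ne_closedPoint _ b (fun h => hq ((hfib q).2 (h.trans hxa.symm))) hb
  rcases hcov _ hqb with h | h
  · exact hVV _ (((toPt_specializes_iff x ⟨P', hP'm.1.1⟩ q).2 hP'q).mem_open hV h) hP'V
  · exact hVV _ hPV (((toPt_specializes_iff x ⟨P, hPp⟩ q).2 hPq).mem_open hV' h)

end Groth.Agent.EGA43.SectionComp
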