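import Groth.Agent.EGA43.SectionComp.UnivOpen
import Groth.Agent.EGA43.SectionComp.DvrConnected
import Groth.Agent.EGA43.DimFormula.Levels
import Groth.Agent.FlatMorSection.Constructible
import Groth.Agent.DVRDom.Points

/-!
# EGA IV 15.6.7: openness of the good locus in the section components
-/

set_option autoImplicit false
set_option backward.isDefEq.respectTransparency false
set_option linter.style.haveILetI false

universe u

open CategoryTheory CategoryTheory.Limits AlgebraicGeometry TopologicalSpace IsLocalRing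

namespace Groth.Agent.EGA43.SectionComp

open Groth.Agent Groth.Agent.EGA43.DimFormula Groth.Agent.EGA43.DvrCrit FlatMorWeight

theorem exists_uniformizer_stalk {A : Type u} [CommRing A] [IsDomain A] [IsDiscreteValuationRing A]
    {P : Scheme.{u}} (p : P ⟶ Spec (CommRingCat.of A)) (w : P) (hw : p w = closedPoint A)
    (hred : _root_.IsReduced ((p.fiber (p w)).presheaf.stalk (p.asFiber w))) :
    ∃ π ∈ maximalIdeal (P.presheaf.stalk w), _root_.IsReduced (P.presheaf.stalk w ⧸ Ideal.span {π}) ∧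
      ∀ q : PrimeSpectrum (P.presheaf.stalk w), π ∈ q.asIdeal ↔ p (toPt w q) = p w := by
  obtain ⟨ϖ, hϖ⟩ := IsDiscreteValuationRing.exists_irreducible A
  let φ : A →+* (Spec (CommRingCat.of A)).presheaf.stalk (p w) := (StructureSheaf.toStalk A (p w)).hom
  let π : P.presheaf.stalk w := (p.stalkMap w).hom (φ ϖ)
  have hm : (maximalIdeal ((Spec (CommRingCat.of A)).presheaf.stalk (p w))).map (p.stalkMap w).hom =
      Ideal.span {π} := by
    letI : Algebra A ((Spec (CommRingCat.of A)).presheaf.stalk (p w)) := φ.toAlgebra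
    haveI : IsLocalization.AtPrime ((Spec (CommRingCat.of A)).presheaf.stalk (p w))
        (PrimeSpectrum.asIdeal (p w : PrimeSpectrum A)) := StructureSheaf.IsLocalization.to_stalk A (p w)
    have h1 := IsLocalization.AtPrime.map_eq_maximalIdeal (PrimeSpectrum.asIdeal (p w : PrimeSpectrum A))
      ((Spec (CommRingCat.of A)).presheaf.stalk (p w))
    rw [← h1, show PrimeSpectrum.asIdeal (p w : PrimeSpectrum A) = maximalIdeal A from
      congrArg PrimeSpectrum.asIdeal hw, hϖ.maximalIdeal_eq, Ideal.map_span, Set.image_singleton,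
      Ideal.map_span, Set.image_singleton]
    rfl
  have hfib : ∀ q : PrimeSpectrum (P.presheaf.stalk w), π ∈ q.asIdeal ↔ p (toPt w q) = p w := fun q => by
    rw [← mem_fibre_iff_le p w q, hm, Ideal.span_singleton_le_iff_mem]
  refine ⟨π, ?_, ?_, hfib⟩
  · exact (hfib (closedPoint _)).2 (congrArg p (toPt_closedPoint w))
  · obtain ⟨e⟩ := CMChart.exists_fibre_stalk_equiv p w
    haveI := hred
    haveI := isReduced_of_injective e.toRingHom e.injective
    exact isReduced_of_injective (Ideal.quotEquivOfEq hm.symm).toRingHom (Ideal.quotEquivOfEq hm.symm).injective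

variable {X Y : Scheme.{u}} (f : X ⟶ Y) (g : Y ⟶ X)

/-- A locally constructible nhd criterion for the section components (irreducible components case). -/
theorem mem_interior_of_generizations [IsLocallyNoetherian Y] [LocallyOfFiniteType f] (hg : g ≫ f = 𝟙 Y)
    (hirr : ∀ z, IsIrreducible (comp f g z)) (x : X) (hx : x ∈ MoreMor.sectionComponents f g)
    (hgen : ∀ x1, x1 ⤳ x → x1 ∈ MoreMor.sectionComponents f g) :
    x ∈ interior (MoreMor.sectionComponents f g) := by
  haveI : IsLocallyNoetherian X := LocallyOfFiniteType.isLocallyNoetherian f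
  obtain ⟨W₁, hW₁, hxW₁, -⟩ := exists_isAffineOpen_mem_and_subset (x := x) (U := ⊤) trivial
  obtain ⟨W₂, hW₂, hgW₂, -⟩ := exists_isAffineOpen_mem_and_subset (x := g (f x)) (U := ⊤) trivial
  let W : X.Opens := W₁ ⊔ W₂
  have hWc : IsCompact (W : Set X) := hW₁.isCompact.union hW₂.isCompact
  obtain ⟨U, hU, hyU, hUW⟩ := exists_isAffineOpen_mem_and_subset (x := f x) (U := g ⁻¹ᵁ W) (Or.inr hgW₂)
  let W' : X.Opens := W ⊓ f ⁻¹ᵁ U
  let f' : W'.toScheme ⟶ U.toScheme := f.resLE U W' inf_le_right
  have hgle : U ≤ g ⁻¹ᵁ W' := fun z hz =>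
    ⟨hUW hz, show f (g z) ∈ U from (apply_section f g hg z).symm ▸ hz⟩
  let g' : U.toScheme ⟶ W'.toScheme := g.resLE W' U hgle
  have hg'f' : g' ≫ f' = 𝟙 _ := by
    rw [← cancel_mono U.ι, Category.assoc, Scheme.Hom.resLE_comp_ι, Scheme.Hom.resLE_comp_ι_assoc, hg,
      Category.comp_id, Category.id_comp]
  haveI : LocallyOfFiniteType (f' ≫ U.ι) := by rw [Scheme.Hom.resLE_comp_ι]; infer_instance
  haveI : LocallyOfFiniteType f' := locallyOfFiniteType_of_comp f' U.ι
  haveI : IsLocallyNoetherian U.toScheme := isLocallyNoetherian_of_isOpenImmersion U.ι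
  haveI : IsLocallyNoetherian W'.toScheme := isLocallyNoetherian_of_isOpenImmersion W'.ι
  haveI : CompactSpace ↥W'.toScheme := by
    have hW'c : IsCompact (W' : Set X) := by
      haveI : NoetherianSpace ↥(W : Set X) := by
        haveI : CompactSpace ↥W.toScheme := isCompact_iff_compactSpace.1 hWc
        haveI : IsLocallyNoetherian W.toScheme := isLocallyNoetherian_of_isOpenImmersion W.ι
        haveI : IsNoetherian W.toScheme := {}
        exact inferInstanceAs (NoetherianSpace ↥W.toScheme)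
      have h := (NoetherianSpace.isCompact (Subtype.val ⁻¹' (f.base ⁻¹' (U : Set Y)) : Set ↥(W : Set X))).image
        continuous_subtype_val
      rwa [Subtype.image_preimage_coe] at h
    exact isCompact_iff_compactSpace.1 hW'c
  haveI : IsNoetherian W'.toScheme := {}
  haveI : IsAffine U.toScheme := hU
  haveI : LocallyOfFinitePresentation f' := inferInstance
  have hE := FlatMorSection.isLocallyConstructible_sectionComponents f' g' hg'f'
  have hfW : ∀ z : W'.toScheme, (f' z).1 = f z.1 := fun z =>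
    congrArg (fun φ : W'.toScheme ⟶ Y => φ z) (Scheme.Hom.resLE_comp_ι f (e := inf_le_right))
  have hgW' : ∀ z : U.toScheme, (g' z).1 = g z.1 := fun z =>
    congrArg (fun φ : U.toScheme ⟶ X => φ z) (Scheme.Hom.resLE_comp_ι g (U := W') (e := hgle))
  have hgf : ∀ z, f' (g' z) = z := apply_section f' g' hg'f'
  have hiff : ∀ z : W'.toScheme, z ∈ MoreMor.sectionComponents f' g' ↔ z.1 ∈ MoreMor.sectionComponents f g := by
    intro z
    rw [mem_sectionComponents_iff, mem_sectionComponents_iff]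
    constructor
    · intro hz
      refine (isPreconnected_connectedComponentIn.image _ continuous_subtype_val.continuousOn).subset_connectedComponentIn
        ⟨g' (f' z), mem_comp_self f' g' hg'f' _, (hgW' _).trans (congrArg g (hfW z))⟩ ?_ ⟨z, hz, rfl⟩
      rintro _ ⟨q, hq, rfl⟩
      exact (hfW q).symm.trans ((congrArg Subtype.val (comp_subset f' g' _ hq)).trans (hfW z))
    · intro hz
      obtain ⟨η, hη, hgenη, -⟩ := exists_generic_comp f g hg (f z.1) (hirr (f z.1))
      have hηW : η ∈ W' := (hgenη _ hz).mem_open W'.isOpen z.2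
      have hsp : ∀ v : W'.toScheme, η ⤳ v.1 → (⟨η, hηW⟩ : W'.toScheme) ⤳ v := fun v hv =>
        W'.ι.isEmbedding.isInducing.specializes_iff.1 hv
      have hfη : f' ⟨η, hηW⟩ = f' z := Subtype.ext (((hfW _).trans (comp_subset f g _ hη)).trans (hfW z).symm)
      have h1 : g' (f' z) ∈ comp f' g' (f' z) := mem_comp_self f' g' hg'f' _
      refine mem_comp_of_specializes f' g' (mem_comp_of_specializes f' g' h1 hfη (Or.inl (hsp _ ?_))) rfl
        (Or.inr (hsp _ (hgenη _ hz)))
      rw [hgW', hfW]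
      exact hgenη _ (mem_comp_self f g hg _)
  have hxW' : x ∈ W' := ⟨Or.inl hxW₁, hyU⟩
  have hnhd := DimFormula.mem_nhds_of_isLocallyConstructible hE (x := (⟨x, hxW'⟩ : W'.toScheme))
    fun x1 hx1 => (hiff x1).2 (hgen x1.1 (hx1.map W'.ι.continuous))
  rw [mem_interior_iff_mem_nhds]
  refine Filter.mem_of_superset (W'.ι.isOpenEmbedding.isOpenMap.image_mem_nhds hnhd) ?_
  rintro _ ⟨z, hz, rfl⟩
  exact (hiff z).1 hz

/-- Generizations of a geometrically reduced point stay in the section components. -/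
theorem mem_sectionComponents_of_specializes [IsLocallyNoetherian Y] [LocallyOfFiniteType f] (hg : g ≫ f = 𝟙 Y)
    (hgi : ∀ (z : Y) (K : Type u) [Field K] [Algebra (IsLocalRing.ResidueField (Y.presheaf.stalk z)) K],
      IsIrreducible ((FBase.bcπ (f.fiberToSpecResidueField z) K ≫ f.fiberι z).base ⁻¹' comp f g z))
    (x : X) (hx : x ∈ MoreMor.sectionComponents f g)
    (hc : ∀ y', y' ⤳ f x → topologicalKrullDim ↥(comp f g y') = topologicalKrullDim ↥(comp f g (f x)))
    (hred : FBase.IsGeomReducedAt (f.fiberToSpecResidueField (f x)) (f.asFiber x))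
    {x1 : X} (hx1 : x1 ⤳ x) : x1 ∈ MoreMor.sectionComponents f g := by
  classical
  haveI : IsLocallyNoetherian X := LocallyOfFiniteType.isLocallyNoetherian f
  by_cases hne : x1 = x
  · exact hne ▸ hx
  obtain ⟨R, _, _, _, m, hma, hmb⟩ := DVRDom.exists_dvr_point hx1 hne
  let gY : Spec (CommRingCat.of R) ⟶ Y := m ≫ f
  set p := pullback.snd f gY with hp_def
  set s := sectionBC f g hg gY with hs_def
  let σ : Spec (CommRingCat.of R) ⟶ pullback f gY := pullback.lift m (𝟙 _) (Category.id_comp _).symm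
  have hσ : ∀ z, pullback.fst f gY (σ z) = m z := fun z =>
    congrArg (fun φ : Spec (CommRingCat.of R) ⟶ X => φ z) (pullback.lift_fst _ _ _)
  have hσp : ∀ z, p (σ z) = z := fun z =>
    congrArg (fun φ : Spec (CommRingCat.of R) ⟶ Spec (CommRingCat.of R) => φ z) (pullback.lift_snd _ _ _)
  haveI : LocallyOfFiniteType p := MorphismProperty.pullback_snd _ _ inferInstance
  haveI : IsLocallyNoetherian (pullback f gY) := LocallyOfFiniteType.isLocallyNoetherian p
  let b : ↥(Spec (CommRingCat.of R)) :=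
    Spec.map (CommRingCat.ofHom (algebraMap R (FractionRing R))) (closedPoint (FractionRing R))
  let a : ↥(Spec (CommRingCat.of R)) := closedPoint R
  have hbne : b ≠ a := by
    intro h
    have h1 := congrArg (fun z => m z) h
    simp only at h1
    rw [show m b = x1 from hmb (closedPoint (FractionRing R)), hma] at h1
    exact hne h1
  have hba : b ⤳ a := (PrimeSpectrum.le_iff_specializes _ _).1 (le_maximalIdeal (b : PrimeSpectrum R).isPrime.ne_top)
  set w := σ a with hw_def
  set w1 := σ b with hw1_def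
  have hirr : ∀ z, IsIrreducible (comp f g z) := fun z => isIrreducible_comp_of_geom f g z (hgi z _)
  have hirr' := fun t => isIrreducible_comp_sectionBC f g hg gY hgi t
  have hwC : w ∈ comp p s a := by
    rw [comp_sectionBC]
    refine ⟨?_, hσp a⟩
    show pullback.fst f gY w ∈ comp f g (f (m a))
    rw [hσ, hma]
    exact hx
  have hgYa : gY a = f x := congrArg f hma
  have hd : topologicalKrullDim ↥(comp p s a) = topologicalKrullDim ↥(comp p s b) := by
    rw [trdAt_generic_sectionBC f g hg gY _ (hirr _) (hirr' _), trdAt_generic_sectionBC f g hg gY _ (hirr _) (hirr' _),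
      hgYa, hc (gY b) (hgYa ▸ hba.map gY.continuous)]
  haveI : IsLocallyNoetherian (Spec (CommRingCat.of R)) := inferInstance
  have hsub := (dim_comp_le_of_irreducible p s (sectionBC_snd f g hg gY) hba (hirr' b)).2 (hirr' a) hd
  obtain ⟨ηa, hηa, hgena, -⟩ := exists_generic_comp p s (sectionBC_snd f g hg gY) a (hirr' a)
  obtain ⟨ηb, hηb, hgenb, -⟩ := exists_generic_comp p s (sectionBC_snd f g hg gY) b (hirr' b)
  have hηba : ηb ⤳ ηa := specializes_iff_mem_closure.2
    (closure_minimal (fun v hv => specializes_iff_mem_closure.1 (hgenb v hv)) isClosed_closure (hsub hηa))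
  have hηbw : ηb ⤳ w := hηba.trans (hgena w hwC)
  have hpw : p w = a := hσp a
  obtain ⟨π, hπ, hπred, hfib⟩ := exists_uniformizer_stalk p w hpw
    (isReduced_fiber_stalk p w (PtIntegral.geomAt_baseChange f gY (Pr := fun R _ => _root_.IsReduced R)
      (fun R R' _ _ e h => isReduced_of_injective e.symm.toRingHom e.symm.injective) w (hσ a |>.trans hma) hred))
  haveI := isNoetherianRing_stalk p w
  have hmin : ∀ P ∈ minimalPrimes ((pullback f gY).presheaf.stalk w), π ∉ P := fun P hP hπP => by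
    have hξ := (mem_minimalPrimes_iff w ⟨P, hP.1.1⟩).1 hP
    have hξa : p (toPt w ⟨P, hP.1.1⟩) = a := ((hfib ⟨P, hP.1.1⟩).1 hπP).trans hpw
    have hξC := mem_comp_of_specializes p s hwC hξa (Or.inl (toPt_specializes w ⟨P, hP.1.1⟩))
    have h1 := hξ ηb (hηba.trans (hgena _ hξC))
    exact hbne ((comp_subset p s b hηb).symm.trans ((congrArg p h1).trans hξa))
  have hmaxb : ∀ q : PrimeSpectrum ((pullback f gY).presheaf.stalk w), π ∉ q.asIdeal → p (toPt w q) = b :=
    fun q hq => eq_of_ne_closedPoint _ b (fun h => hq ((hfib q).2 (h.trans hpw.symm))) hbne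
  let S : Set (Ideal ((pullback f gY).presheaf.stalk w)) :=
    {P | ∃ h : P.IsPrime, P ∈ minimalPrimes _ ∧ toPt w ⟨P, h⟩ ∈ comp p s b}
  have hall : ∀ P (hP : P ∈ minimalPrimes ((pullback f gY).presheaf.stalk w)),
      toPt w ⟨P, hP.1.1⟩ ∈ comp p s b := by
    by_contra hno
    push Not at hno
    obtain ⟨P₂, hP₂, hP₂C⟩ := hno
    obtain ⟨Q, hQ⟩ := exists_toPt hηbw
    obtain ⟨P₁, hP₁, hP₁Q⟩ := Ideal.exists_minimalPrimes_le (I := (⊥ : Ideal ((pullback f gY).presheaf.stalk w)))
      (J := Q.asIdeal) bot_le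
    have hP₁C : toPt w ⟨P₁, hP₁.1.1⟩ ∈ comp p s b :=
      mem_comp_of_specializes p s hηb (hmaxb _ (hmin P₁ hP₁))
        (Or.inl (hQ ▸ (toPt_specializes_iff w ⟨P₁, hP₁.1.1⟩ Q).2 hP₁Q))
    obtain ⟨P, ⟨hPp, -, hPC⟩, P', ⟨hP'm, hP'S⟩, q, hq, hPq, hP'q⟩ := minimalPrimes_linked π hπ hπred hmin S
      (fun P hP => hP.2.1) ⟨P₁, hP₁.1.1, hP₁, hP₁C⟩ ⟨P₂, hP₂, fun ⟨_, _, h⟩ => hP₂C h⟩
    have hqC := mem_comp_of_specializes p s hPC (hmaxb q hq)
      (Or.inr ((toPt_specializes_iff w ⟨P, hPp⟩ q).2 hPq))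
    exact hP'S ⟨hP'm.1.1, hP'm, mem_comp_of_specializes p s hqC (hmaxb _ (hmin P' hP'm))
      (Or.inl ((toPt_specializes_iff w ⟨P', hP'm.1.1⟩ q).2 hP'q))⟩
  obtain ⟨Q, hQ⟩ := exists_toPt (hba.map σ.continuous)
  obtain ⟨P, hP, hPQ⟩ := Ideal.exists_minimalPrimes_le (I := (⊥ : Ideal ((pullback f gY).presheaf.stalk w)))
    (J := Q.asIdeal) bot_le
  have hw1C : w1 ∈ comp p s b := mem_comp_of_specializes p s (hall P hP) (hσp b)
    (Or.inr (((toPt_specializes_iff w ⟨P, hP.1.1⟩ Q).2 hPQ).trans (specializes_of_eq hQ)))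
  rw [comp_sectionBC] at hw1C
  have h1 : pullback.fst f gY w1 ∈ comp f g (f (m b)) := hw1C.1
  rw [hσ, show m b = x1 from hmb (closedPoint (FractionRing R))] at h1
  exact h1

/-- EGA IV 15.6.7 over a locally Noetherian base. -/
theorem isOpen_goodSectionLocus [IsLocallyNoetherian Y] [LocallyOfFiniteType f] (hg : g ≫ f = 𝟙 Y)
    (hgi : ∀ (z : Y) (K : Type u) [Field K] [Algebra (IsLocalRing.ResidueField (Y.presheaf.stalk z)) K],
      IsIrreducible ((FBase.bcπ (f.fiberToSpecResidueField z) K ≫ f.fiberι z).base ⁻¹' comp f g z)) :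
    IsOpen {x : X | x ∈ MoreMor.sectionComponents f g ∧
      (∃ V ∈ nhds (f.base x), ∀ z ∈ V, topologicalKrullDim ↥(comp f g z) = topologicalKrullDim ↥(comp f g (f.base x))) ∧
      FBase.IsGeomReducedAt (f.fiberToSpecResidueField (f.base x)) (f.asFiber x)} := by
  refine isOpen_iff_mem_nhds.2 fun x ⟨hx, ⟨V, hV, hc⟩, hred⟩ => ?_
  obtain ⟨V', hV'V, hV'o, hxV'⟩ := mem_nhds_iff.1 hV
  have hc' : ∀ y', y' ⤳ f x → topologicalKrullDim ↥(comp f g y') = topologicalKrullDim ↥(comp f g (f x)) :=
    fun y' hy' => hc y' (hV'V (hy'.mem_open hV'o hxV'))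
  have hirr : ∀ z, IsIrreducible (comp f g z) := fun z => isIrreducible_comp_of_geom f g z (hgi z _)
  have hxC := (mem_sectionComponents_iff f g x).1 hx
  have hint := mem_interior_of_generizations f g hg hirr x hx fun x1 hx1 =>
    mem_sectionComponents_of_specializes f g hg hgi x hx hc' hred hx1
  obtain ⟨U, hxU, -, hU⟩ := DvrCrit.exists_open_universallyOpen f x (fun z hz _ => by
    refine isUnivOpenAt_of_dim_comp_const f g hg hgi (f x) hc'
      (mem_comp_of_specializes f g hxC ((f.range_fiberι _).le ⟨z, rfl⟩) (Or.inl ?_))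
    have h := (specializes_iff_mem_closure.2 hz).map (f.fiberι (f x)).continuous
    rwa [f.fiberι_asFiber] at h) hred
  refine Filter.mem_of_superset (Filter.inter_mem (Filter.inter_mem (mem_interior_iff_mem_nhds.1 hint)
    (U.isOpen.mem_nhds hxU)) ((hV'o.preimage f.continuous).mem_nhds hxV')) ?_
  rintro z ⟨⟨hzS, hzU⟩, hzV⟩
  exact ⟨hzS, ⟨V', hV'o.mem_nhds hzV, fun t ht => (hc t (hV'V ht)).trans (hc _ (hV'V hzV)).symm⟩, hU z hzU⟩

end Groth.Agent.EGA43.SectionComp
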