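import Groth.Agent.EGA43.DvrCrit.ReducedStalk
import Groth.Agent.EGA43.PtIntegral.Transfer
import Groth.Agent.EGA43.CMChart.Main

/-!
# Fibre properties under restriction to an open
-/

set_option autoImplicit false
set_option backward.isDefEq.respectTransparency false
set_option linter.style.haveILetI false

universe u

open CategoryTheory CategoryTheory.Limits AlgebraicGeometry IsLocalRing

namespace Groth.Agent.EGA43.SectionComp

variable {W W0 : Scheme.{u}} {Pr : ∀ (R : Type u) [CommRing R], Prop}
  (hPr : ∀ (R R' : Type u) [CommRing R] [CommRing R'], R ≃+* R' → Pr R → Pr R')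

include hPr in
theorem geomAt_of_openImmersion {k : Type u} [Field k] (i : W ⟶ W0) [IsOpenImmersion i]
    (p0 : W0 ⟶ Spec (CommRingCat.of k)) (p : W ⟶ Spec (CommRingCat.of k)) (hp : i ≫ p0 = p) (w : W)
    (h : PtIntegral.GeomAt Pr p0 (i w)) : PtIntegral.GeomAt Pr p w := by
  subst hp
  intro K _ _ x' hx'
  let κ := Spec.map (CommRingCat.ofHom (algebraMap k K))
  let j : pullback (i ≫ p0) κ ⟶ pullback p0 κ :=
    pullback.lift (pullback.fst _ _ ≫ i) (pullback.snd _ _) (by rw [Category.assoc, pullback.condition])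
  have hj : IsPullback (pullback.fst (i ≫ p0) κ) j i (pullback.fst p0 κ) := by
    refine IsPullback.of_bot ?_ (by simp [j]) (IsPullback.of_hasPullback p0 κ)
    convert IsPullback.of_hasPullback (i ≫ p0) κ using 1
    simp [j]
  haveI : IsOpenImmersion j := MorphismProperty.of_isPullback hj inferInstance
  refine hPr _ _ (asIso (j.stalkMap x')).commRingCatIsoToRingEquiv (h K (j x') ?_)
  show pullback.fst p0 κ (j x') = i w
  rw [← Scheme.Hom.comp_apply, pullback.lift_fst, Scheme.Hom.comp_apply]
  exact congrArg i hx'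

variable {X Y : Scheme.{u}}

include hPr in
theorem geomAt_fiber_openImmersion (i : W ⟶ X) [IsOpenImmersion i] (f : X ⟶ Y) (w : W)
    (h : PtIntegral.GeomAt Pr (f.fiberToSpecResidueField (f (i w))) (f.asFiber (i w))) :
    PtIntegral.GeomAt Pr ((i ≫ f).fiberToSpecResidueField ((i ≫ f) w)) ((i ≫ f).asFiber w) := by
  let j : (i ≫ f).fiber (f (i w)) ⟶ f.fiber (f (i w)) :=
    pullback.lift (pullback.fst _ _ ≫ i) (pullback.snd _ _) (by rw [Category.assoc, pullback.condition])
  have hj : IsPullback (pullback.fst (i ≫ f) (Y.fromSpecResidueField (f (i w)))) j i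
      (pullback.fst f (Y.fromSpecResidueField (f (i w)))) := by
    refine IsPullback.of_bot ?_ (by simp [j]) (IsPullback.of_hasPullback f (Y.fromSpecResidueField (f (i w))))
    convert IsPullback.of_hasPullback (i ≫ f) (Y.fromSpecResidueField (f (i w))) using 1
    simp [j]
  haveI : IsOpenImmersion j := MorphismProperty.of_isPullback hj inferInstance
  have hjz : j ((i ≫ f).asFiber w) = f.asFiber (i w) := by
    apply (f.fiberι (f (i w))).isEmbedding.injective
    refine Eq.trans ?_ (f.fiberι_asFiber (i w)).symm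
    refine (congrArg (fun φ : (i ≫ f).fiber (f (i w)) ⟶ X => φ ((i ≫ f).asFiber w)) (pullback.lift_fst _ _ _)).trans ?_
    exact congrArg i ((i ≫ f).fiberι_asFiber w)
  exact geomAt_of_openImmersion hPr j (f.fiberToSpecResidueField (f (i w)))
    ((i ≫ f).fiberToSpecResidueField (f (i w))) (pullback.lift_snd _ _ _) ((i ≫ f).asFiber w) (hjz.symm ▸ h)

end Groth.Agent.EGA43.SectionComp
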