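import Groth.Agent.EGA43.SectionComp.DvrConnected
import Groth.Agent.EGA43.SectionComp.Linking
import Groth.Agent.EGA43.SectionComp.OpenRestrict
import Groth.Agent.EGA43.DimFormula.Levels
import Groth.Agent.EGA43.Chevalley.Open
import Groth.Agent.FlatMorSection.Constructible

/-!
# EGA IV 15.6.4: section components with geometrically reduced fibres form a neighbourhood
-/

set_option autoImplicit false
set_option backward.isDefEq.respectTransparency false
set_option linter.style.haveILetI false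

universe u

open CategoryTheory CategoryTheory.Limits AlgebraicGeometry IsLocalRing TopologicalSpace

namespace Groth.Agent.EGA43.SectionComp

open Groth.Agent Groth.Agent.EGA43.DvrCrit

theorem geomRed_congr' : ∀ (R R' : Type u) [CommRing R] [CommRing R'], R ≃+* R' →
    _root_.IsReduced R → _root_.IsReduced R' :=
  fun _ _ _ _ e _ => isReduced_of_injective e.symm.toRingHom e.symm.injective

/-- Over a DVR: a generization of a point of the special section component is in the generic one. -/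
theorem mem_sectionComponents_of_dvr {V : Type u} [CommRing V] [IsDomain V] [IsDiscreteValuationRing V]
    {P : Scheme.{u}} (p : P ⟶ Spec (CommRingCat.of V)) [LocallyOfFiniteType p]
    (s : Spec (CommRingCat.of V) ⟶ P) (hs : s ≫ p = 𝟙 _)
    (hyp : ∀ v, p v = closedPoint V → v ∈ MoreMor.sectionComponents p s →
      EGA43.IsUnivOpenAt p v ∧ FBase.IsGeomReducedAt (p.fiberToSpecResidueField (p v)) (p.asFiber v))
    {w w1 : P} (hw : p w = closedPoint V) (hwc : w ∈ MoreMor.sectionComponents p s) (hsp : w1 ⤳ w) :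
    w1 ∈ MoreMor.sectionComponents p s := by
  classical
  haveI : IsLocallyNoetherian P := LocallyOfFiniteType.isLocallyNoetherian p
  have hps : ∀ z, p (s z) = z := fun z => congrArg (fun φ : Spec (CommRingCat.of V) ⟶ _ => φ z) hs
  by_cases hw1 : p w1 = closedPoint V
  · show w1 ∈ connectedComponentIn (p.base ⁻¹' {p w1}) (s (p w1))
    have hwc' : w ∈ connectedComponentIn (p.base ⁻¹' {closedPoint V}) (s (closedPoint V)) := by
      have := hwc
      simp only [MoreMor.sectionComponents, Set.mem_ofPred_eq, hw] at this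
      exact this
    rw [hw1, connectedComponentIn_eq hwc']
    refine (isPreconnected_singleton.subset_closure (t := {w1, w}) (Set.singleton_subset_iff.2 (Or.inl rfl))
      (Set.insert_subset_iff.2 ⟨subset_closure rfl, Set.singleton_subset_iff.2
        (specializes_iff_mem_closure.1 hsp)⟩)).subset_connectedComponentIn (Or.inr rfl) ?_ (Or.inl rfl)
    rintro z (rfl | rfl)
    · exact hw1
    · exact hw
  set a := closedPoint V with ha_def
  set C : Set P := connectedComponentIn (p.base ⁻¹' {a}) (s a) with hC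
  have hsaC : s a ∈ C := mem_connectedComponentIn (hps a)
  have hCsub : C ⊆ p.base ⁻¹' {a} := connectedComponentIn_subset _ _
  have hCmem : ∀ v, v ∈ C → v ∈ MoreMor.sectionComponents p s := fun v hv => by
    show v ∈ connectedComponentIn (p.base ⁻¹' {p v}) (s (p v))
    rw [show p v = a from hCsub hv]
    exact hv
  have hwC : w ∈ C := by
    have := hwc
    simp only [MoreMor.sectionComponents, Set.mem_ofPred_eq, hw] at this
    exact this
  have hgood : ∀ v ∈ C, ∃ O : P.Opens, v ∈ O ∧ UniversallyOpen (O.ι ≫ p) ∧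
      ∀ v' : P, v' ∈ O → FBase.IsGeomReducedAt (p.fiberToSpecResidueField (p v')) (p.asFiber v') := by
    intro v hv
    refine exists_open_universallyOpen p v (fun z hz _ => ?_) (hyp v (hCsub hv) (hCmem v hv)).2
    have hzv : p.fiberι (p v) z ⤳ v := by
      have h := (specializes_iff_mem_closure.2 hz).map (p.fiberι (p v)).continuous
      rwa [p.fiberι_asFiber] at h
    have hza : p (p.fiberι (p v) z) = a := ((p.range_fiberι _).le ⟨z, rfl⟩ : _ = p v).trans (hCsub hv)
    refine (hyp _ hza (hCmem _ ?_)).1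
    rw [hC, connectedComponentIn_eq hv]
    refine (isPreconnected_singleton.subset_closure (t := {p.fiberι (p v) z, v})
      (Set.singleton_subset_iff.2 (Or.inl rfl))
      (Set.insert_subset_iff.2 ⟨subset_closure rfl, Set.singleton_subset_iff.2
        (specializes_iff_mem_closure.1 hzv)⟩)).subset_connectedComponentIn (Or.inr rfl) ?_ (Or.inl rfl)
    rintro t (rfl | rfl)
    · exact hza
    · exact hCsub hv
  choose! O hO hOopen hOred using hgood
  have hFcl : IsClosed (p.base ⁻¹' {a}) :=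
    ((PrimeSpectrum.isClosed_singleton_iff_isMaximal a).2 (maximalIdeal.isMaximal V)).preimage p.continuous
  have hFloc : H8Top.IsLocNoetherian ↥(p.base ⁻¹' {a}) := by
    refine H8Top.IsLocNoetherian.of_isOpen (fun z => ?_) _
    obtain ⟨W, hW, hzW, -⟩ := exists_isAffineOpen_mem_and_subset (x := z) (U := ⊤) trivial
    haveI := IsLocallyNoetherian.component_noetherian ⟨W, hW⟩
    exact ⟨W, W.isOpen.mem_nhds hzW, noetherianSpace_of_isAffineOpen W hW⟩
  obtain ⟨G, hG, hGC⟩ := isOpen_induced_iff.1 (hFloc.isOpen_connectedComponent ⟨s a, hps a⟩)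
  have hCeq : C = Subtype.val '' connectedComponent (⟨s a, hps a⟩ : ↥(p.base ⁻¹' {a})) :=
    connectedComponentIn_eq_image (F := p.base ⁻¹' {a}) (x := s a) (hps a)
  have hDcl : IsClosed (p.base ⁻¹' {a} \ C) := by
    have : p.base ⁻¹' {a} \ C = p.base ⁻¹' {a} ∩ Gᶜ := by
      ext z
      rw [hCeq]
      constructor
      · rintro ⟨hz, hzC⟩
        exact ⟨hz, fun hzG => hzC ⟨⟨z, hz⟩, hGC.le hzG, rfl⟩⟩
      · rintro ⟨hz, hzG⟩
        refine ⟨hz, ?_⟩
        rintro ⟨⟨z', hz'⟩, hzc, rfl⟩
        exact hzG (hGC.ge hzc)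
    rw [this]
    exact hFcl.inter hG.isClosed_compl
  let U0 : P.Opens := ⟨(⋃ v ∈ C, (O v : Set P)) ∩ (p.base ⁻¹' {a} \ C)ᶜ,
    (isOpen_biUnion fun v _ => (O v).isOpen).inter hDcl.isOpen_compl⟩
  have hCU0 : C ⊆ U0 := fun v hv => ⟨Set.mem_biUnion hv (hO v hv), fun h => h.2 hv⟩
  have hPloc : H8Top.IsLocNoetherian ↥P := fun z => by
    obtain ⟨W, hW, hzW, -⟩ := exists_isAffineOpen_mem_and_subset (x := z) (U := ⊤) trivial
    haveI := IsLocallyNoetherian.component_noetherian ⟨W, hW⟩
    exact ⟨W, W.isOpen.mem_nhds hzW, noetherianSpace_of_isAffineOpen W hW⟩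
  let V1 : P.Opens := ⟨connectedComponentIn (U0 : Set P) (s a), by
    rw [connectedComponentIn_eq_image (hCU0 hsaC)]
    exact U0.isOpen.isOpenMap_subtype_val _ ((hPloc.of_isOpen _).isOpen_connectedComponent _)⟩
  have hCV1 : C ⊆ V1 := isPreconnected_connectedComponentIn.subset_connectedComponentIn hsaC hCU0
  have hV1U0 : (V1 : Set P) ⊆ U0 := connectedComponentIn_subset _ _
  haveI : PreconnectedSpace ↥(V1.toScheme) :=
    Subtype.preconnectedSpace (isPreconnected_connectedComponentIn (x := s a) (F := (U0 : Set P)))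
  set b := p w1 with hb_def
  have hba : b ⤳ a := hw ▸ hsp.map p.continuous
  have hw1V : w1 ∈ V1 := hsp.mem_open V1.isOpen (hCV1 hwC)
  have hsbV : s b ∈ V1 := (hba.map s.continuous).mem_open V1.isOpen (hCV1 hsaC)
  have hopen : IsOpenMap (V1.ι ≫ p).base := by
    intro Ω hΩ
    have hΩ' : IsOpen (V1.ι.base '' Ω) := V1.ι.isOpenEmbedding.isOpenMap _ hΩ
    have : (V1.ι ≫ p).base '' Ω = ⋃ v ∈ C, ((O v).ι ≫ p).base '' ((O v).ι.base ⁻¹' (V1.ι.base '' Ω)) := by
      ext z
      simp only [Set.mem_iUnion, Set.mem_image, Set.mem_preimage]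
      constructor
      · rintro ⟨q, hq, rfl⟩
        obtain ⟨v, hv, hqv⟩ := Set.mem_iUnion₂.1 (hV1U0 q.2).1
        exact ⟨v, hv, ⟨q.1, hqv⟩, ⟨q, hq, rfl⟩, rfl⟩
      · rintro ⟨v, -, q, ⟨q', hq', he⟩, rfl⟩
        exact ⟨q', hq', congrArg p he⟩
    rw [this]
    exact isOpen_biUnion fun v hv => by
      haveI := hOopen v hv
      exact ((O v).ι ≫ p).isOpenMap _ (hΩ'.preimage (O v).ι.continuous)
  have hred : ∀ q : V1.toScheme, (V1.ι ≫ p) q = closedPoint V →
      _root_.IsReduced (((V1.ι ≫ p).fiber ((V1.ι ≫ p) q)).presheaf.stalk ((V1.ι ≫ p).asFiber q)) := by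
    intro q hq
    obtain ⟨v, hv, hqv⟩ := Set.mem_iUnion₂.1 (hV1U0 q.2).1
    exact isReduced_fiber_stalk (V1.ι ≫ p) q
      (geomAt_fiber_openImmersion (Pr := fun R _ => _root_.IsReduced R) geomRed_congr' V1.ι p q
        (hOred v hv q.1 hqv))
  haveI := preconnected_generic_fiber (V1.ι ≫ p) hopen b hw1 hred
  have hmem : ∀ z : P, z ∈ V1 → p z = b → z ∈ Set.range ((V1.ι ≫ p).fiberι b ≫ V1.ι) := by
    intro z hz hzb
    obtain ⟨q, hq⟩ : (⟨z, hz⟩ : V1.toScheme) ∈ Set.range ((V1.ι ≫ p).fiberι b) :=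
      ((V1.ι ≫ p).range_fiberι b).ge hzb
    exact ⟨q, congrArg Subtype.val hq⟩
  show w1 ∈ connectedComponentIn (p.base ⁻¹' {p w1}) (s (p w1))
  refine (isPreconnected_range ((V1.ι ≫ p).fiberι b ≫ V1.ι).continuous).subset_connectedComponentIn
    (hmem _ hsbV (hps b)) ?_ (hmem _ hw1V rfl)
  rintro _ ⟨q, rfl⟩
  exact ((V1.ι ≫ p).range_fiberι b).le ⟨q, rfl⟩

variable {X Y : Scheme.{u}}

/-- EGA IV 15.6.4. -/
theorem mem_interior_sectionComponents [IsLocallyNoetherian Y] (f : X ⟶ Y) [LocallyOfFiniteType f]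
    (g : Y ⟶ X) (hg : g ≫ f = 𝟙 Y) (y : Y)
    (hyp : ∀ x ∈ connectedComponentIn (f.base ⁻¹' {y}) (g.base y), EGA43.IsUnivOpenAt f x ∧
      FBase.IsGeomReducedAt (f.fiberToSpecResidueField (f.base x)) (f.asFiber x))
    (x : X) (hx : x ∈ connectedComponentIn (f.base ⁻¹' {y}) (g.base y)) :
    x ∈ interior (MoreMor.sectionComponents f g) := by
  haveI : IsLocallyNoetherian X := LocallyOfFiniteType.isLocallyNoetherian f
  have hfg : ∀ z, f (g z) = z := fun z => congrArg (fun φ : Y ⟶ Y => φ z) hg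
  have hxy : f x = y := connectedComponentIn_subset (f.base ⁻¹' {y}) (g.base y) hx
  obtain ⟨W, hWc, hgW, hxW⟩ := exists_qc_open_linking f (hfg y) hx
  obtain ⟨U, hU, hyU, hUW⟩ := exists_isAffineOpen_mem_and_subset (x := y) (U := g ⁻¹ᵁ W) hgW
  let W' : X.Opens := W ⊓ f ⁻¹ᵁ U
  let f' : W'.toScheme ⟶ U.toScheme := f.resLE U W' inf_le_right
  let g' : U.toScheme ⟶ W'.toScheme := g.resLE W' U (fun z hz =>
    ⟨hUW hz, show f (g z) ∈ U from (hfg z).symm ▸ hz⟩)
  have hg'f' : g' ≫ f' = 𝟙 _ := by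
    rw [← cancel_mono U.ι, Category.assoc, Scheme.Hom.resLE_comp_ι, Scheme.Hom.resLE_comp_ι_assoc, hg,
      Category.comp_id, Category.id_comp]
  haveI : LocallyOfFiniteType (f' ≫ U.ι) := by rw [Scheme.Hom.resLE_comp_ι]; infer_instance
  haveI : LocallyOfFiniteType f' := locallyOfFiniteType_of_comp f' U.ι
  haveI : IsLocallyNoetherian U.toScheme := isLocallyNoetherian_of_isOpenImmersion U.ι
  haveI : IsLocallyNoetherian W'.toScheme := isLocallyNoetherian_of_isOpenImmersion W'.ι
  haveI : CompactSpace ↥W'.toScheme := by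
    have hW'c : IsCompact (W' : Set X) := by
      haveI : NoetherianSpace ↥(W : Set X) := by
        haveI : CompactSpace ↥W.toScheme := isCompact_iff_compactSpace.1 hWc
        haveI : IsLocallyNoetherian W.toScheme := isLocallyNoetherian_of_isOpenImmersion W.ι
        haveI : IsNoetherian W.toScheme := {}
        exact inferInstanceAs (NoetherianSpace ↥W.toScheme)
      have h := (NoetherianSpace.isCompact (Subtype.val ⁻¹' (f.base ⁻¹' (U : Set Y)) : Set ↥(W : Set X))).image
        continuous_subtype_val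
      rwa [Subtype.image_preimage_coe] at h
    exact isCompact_iff_compactSpace.1 hW'c
  haveI : IsNoetherian W'.toScheme := {}
  haveI : IsAffine U.toScheme := hU
  haveI : QuasiSeparated (terminal.from W'.toScheme) := inferInstance
  haveI : QuasiSeparated f' := inferInstance
  haveI : QuasiCompact f' := inferInstance
  haveI : LocallyOfFinitePresentation f' := inferInstance
  have hE := FlatMorSection.isLocallyConstructible_sectionComponents f' g' hg'f'
  have hfW : ∀ z : W'.toScheme, (f' z).1 = f z.1 := fun z =>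
    congrArg (fun φ : W'.toScheme ⟶ Y => φ z) (Scheme.Hom.resLE_comp_ι f (e := inf_le_right))
  have hgW' : ∀ z : U.toScheme, (g' z).1 = g z.1 := fun z =>
    congrArg (fun φ : U.toScheme ⟶ X => φ z) (Scheme.Hom.resLE_comp_ι g (U := W') (e := fun w hw => ⟨hUW hw, show f (g w) ∈ U from (hfg w).symm ▸ hw⟩))
  have hsub : ∀ z : W'.toScheme, z ∈ MoreMor.sectionComponents f' g' → z.1 ∈ MoreMor.sectionComponents f g := by
    intro z hz
    show z.1 ∈ connectedComponentIn (f.base ⁻¹' {f z.1}) (g (f z.1))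
    refine (isPreconnected_connectedComponentIn.image _ continuous_subtype_val.continuousOn).subset_connectedComponentIn
      ⟨g' (f' z), mem_connectedComponentIn (congrArg (fun φ : U.toScheme ⟶ U.toScheme => φ (f' z)) hg'f'),
        (hgW' _).trans (congrArg g (hfW z))⟩ ?_ ⟨z, hz, rfl⟩
    rintro _ ⟨q, hq, rfl⟩
    exact (hfW q).symm.trans ((congrArg Subtype.val (connectedComponentIn_subset (f'.base ⁻¹' {f' z}) (g' (f' z)) hq)).trans (hfW z))
  have hxW' : x ∈ W' := ⟨(connectedComponentIn_subset _ _ hxW).2, show f x ∈ U from hxy.symm ▸ hyU⟩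
  let x' : W'.toScheme := ⟨x, hxW'⟩
  have hfx' : f' x' = ⟨y, hyU⟩ := Subtype.ext ((hfW x').trans hxy)
  have hx' : x' ∈ MoreMor.sectionComponents f' g' := by
    show x' ∈ connectedComponentIn (f'.base ⁻¹' {f' x'}) (g' (f' x'))
    rw [hfx']
    have hsubW : connectedComponentIn (f.base ⁻¹' {y} ∩ W) (g y) ⊆ (W' : Set X) := fun v hv =>
      ⟨(connectedComponentIn_subset _ _ hv).2,
        show f v ∈ U from (show f v = y from (connectedComponentIn_subset _ _ hv).1).symm ▸ hyU⟩
    have hpre : _root_.IsPreconnected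
        (W'.ι.base ⁻¹' connectedComponentIn (f.base ⁻¹' {y} ∩ W) (g y)) := by
      rw [← W'.ι.isEmbedding.isInducing.isPreconnected_image,
        Set.image_preimage_eq_of_subset (fun v hv => ⟨⟨v, hsubW hv⟩, rfl⟩)]
      exact isPreconnected_connectedComponentIn
    refine hpre.subset_connectedComponentIn ?_ ?_ (show x' ∈ W'.ι.base ⁻¹' _ from hxW)
    · show (g' ⟨y, hyU⟩).1 ∈ connectedComponentIn _ _
      rw [hgW']
      exact mem_connectedComponentIn ⟨hfg y, hgW⟩
    · intro q hq
      exact Subtype.ext ((hfW q).trans (connectedComponentIn_subset _ _ hq).1)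
  suffices hnhd : MoreMor.sectionComponents f' g' ∈ nhds x' by
    rw [mem_interior_iff_mem_nhds]
    refine Filter.mem_of_superset (W'.ι.isOpenEmbedding.isOpenMap.image_mem_nhds hnhd) ?_
    rintro _ ⟨z, hz, rfl⟩
    exact hsub z hz
  refine DimFormula.mem_nhds_of_isLocallyConstructible hE fun x1 hx1 => ?_
  by_cases hne : x1 = x'
  · exact hne ▸ hx'
  obtain ⟨R, _, _, _, m, hma, hmb⟩ := DVRDom.exists_dvr_point hx1 hne
  let gU : Spec (CommRingCat.of R) ⟶ U.toScheme := m ≫ f'
  let gY : Spec (CommRingCat.of R) ⟶ Y := gU ≫ U.ι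
  have hfU : W'.ι ≫ f = f' ≫ U.ι := (Scheme.Hom.resLE_comp_ι f (e := inf_le_right)).symm
  let p := pullback.snd (W'.ι ≫ f) gY
  have hcomm : pullback.fst (W'.ι ≫ f) gY ≫ f' = p ≫ gU := by
    rw [← cancel_mono U.ι, Category.assoc, Category.assoc, ← hfU]
    exact pullback.condition
  have sq : IsPullback (pullback.fst (W'.ι ≫ f) gY) p f' gU := by
    refine ⟨⟨hcomm⟩, ⟨PullbackCone.IsLimit.mk _ (fun c => pullback.lift c.fst c.snd ?_)
      (fun c => pullback.lift_fst _ _ _) (fun c => pullback.lift_snd _ _ _) fun c k h1 h2 => ?_⟩⟩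
    · rw [hfU]
      exact (Category.assoc _ _ _).symm.trans ((congrArg (· ≫ U.ι) c.condition).trans (Category.assoc _ _ _))
    · ext
      · exact h1.trans (pullback.lift_fst _ _ _).symm
      · exact h2.trans (pullback.lift_snd _ _ _).symm
  let s : Spec (CommRingCat.of R) ⟶ pullback (W'.ι ≫ f) gY :=
    sq.lift (gU ≫ g') (𝟙 _) (by rw [Category.assoc, hg'f', Category.comp_id, Category.id_comp])
  have hbc := FlatMorSection.sectionComponents_baseChange f' g' hg'f' p _ gU sq s (sq.lift_snd _ _ _)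
    (sq.lift_fst _ _ _)
  let σ : Spec (CommRingCat.of R) ⟶ pullback (W'.ι ≫ f) gY := sq.lift m (𝟙 _) (Category.id_comp _).symm
  have hσ : ∀ z, pullback.fst (W'.ι ≫ f) gY (σ z) = m z := fun z =>
    congrArg (fun φ : Spec (CommRingCat.of R) ⟶ W'.toScheme => φ z) (sq.lift_fst _ _ _)
  haveI : LocallyOfFiniteType p := MorphismProperty.pullback_snd _ _ inferInstance
  let η : ↥(Spec (CommRingCat.of (FractionRing R))) := closedPoint (FractionRing R)
  let b : ↥(Spec (CommRingCat.of R)) := Spec.map (CommRingCat.ofHom (algebraMap R (FractionRing R))) η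
  have hba : b ⤳ closedPoint R := (PrimeSpectrum.le_iff_specializes _ _).1
    (le_maximalIdeal (b : PrimeSpectrum R).isPrime.ne_top)
  have key := mem_sectionComponents_of_dvr p s (sq.lift_snd _ _ _) (fun v hv hvc => ?_)
    (w := σ (closedPoint R)) (w1 := σ b)
    (congrArg (fun φ : Spec (CommRingCat.of R) ⟶ Spec (CommRingCat.of R) => φ (closedPoint R)) (sq.lift_snd _ _ _))
    (by rw [hbc, Set.mem_preimage, hσ, hma]; exact hx') (hba.map σ.continuous)
  · rw [hbc, Set.mem_preimage, hσ] at key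
    rwa [show m b = x1 from hmb η] at key
  rw [hbc, Set.mem_preimage] at hvc
  have hfv : f' (pullback.fst (W'.ι ≫ f) gY v) = ⟨y, hyU⟩ := by
    rw [← hfx', ← hma]
    exact (congrArg (fun φ : pullback (W'.ι ≫ f) gY ⟶ U.toScheme => φ v) hcomm).trans (congrArg gU hv)
  have hvy : f (pullback.fst (W'.ι ≫ f) gY v).1 = y := (hfW _).symm.trans (congrArg Subtype.val hfv)
  have h := hyp (pullback.fst (W'.ι ≫ f) gY v).1 (by
    have := hsub _ hvc
    simp only [MoreMor.sectionComponents, Set.mem_ofPred_eq, hvy] at this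
    exact this)
  refine ⟨isUnivOpenAt_of_isPullback (isUnivOpenAt_comp (isUnivOpenAt_of_universallyOpen W'.ι _) h.1)
    (IsPullback.of_hasPullback (W'.ι ≫ f) gY) rfl, ?_⟩
  exact PtIntegral.geomAt_baseChange (W'.ι ≫ f) gY (Pr := fun R _ => _root_.IsReduced R) geomRed_congr' v rfl
    (geomAt_fiber_openImmersion (Pr := fun R _ => _root_.IsReduced R) geomRed_congr' W'.ι f _ h.2)

end Groth.Agent.EGA43.SectionComp
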