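import Groth.Agent.EGA43.SectionComp.FPModel
import Groth.Agent.EGA43.SectionComp.FlatModel
import Groth.Agent.EGA43.SectionComp.AffineModel
import Groth.Agent.EGA43.SectionComp.GoodOpen
import Groth.Agent.EGA43.SectionComp.Nhd

/-!
# EGA IV 15.6.4, 15.6.7 for morphisms of finite presentation
-/

set_option autoImplicit false
set_option backward.isDefEq.respectTransparency false
set_option linter.style.haveILetI false

universe u

open CategoryTheory CategoryTheory.Limits AlgebraicGeometry TopologicalSpace IsLocalRing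

namespace Groth.Agent.EGA43.SectionComp

open Groth.Agent Groth.Agent.EGA43.DimFormula

variable {X Y S : Scheme.{u}}

/-- Geometric reducedness of the fibre is stable under base change. -/
theorem isGeomReducedAt_isPullback_iff (f : X ⟶ Y) (g : S ⟶ Y) {X' : Scheme.{u}} {a : X' ⟶ X} {f' : X' ⟶ S}
    (sq : IsPullback a f' f g) (w : X') :
    FBase.IsGeomReducedAt (f'.fiberToSpecResidueField (f' w)) (f'.asFiber w) ↔
      FBase.IsGeomReducedAt (f.fiberToSpecResidueField (f (a w))) (f.asFiber (a w)) := by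
  refine ⟨isGeomReducedAt_of_isPullback f g sq w, fun h => ?_⟩
  let e := sq.isoPullback
  have h'' := PtIntegral.geomAt_baseChange (Pr := fun R _ => _root_.IsReduced R) f g reduced_ringEquiv (e.hom w)
    (x := a w) (congrArg (fun φ : X' ⟶ X => φ w) sq.isoPullback_hom_fst) h
  exact isGeomReducedAt_congr sq.isoPullback_hom_snd w
    (geomAt_fiber_openImmersion (Pr := fun R _ => _root_.IsReduced R) reduced_ringEquiv e.hom (pullback.snd f g) w h'')

/-- EGA IV 15.6.4 for a flat morphism of finite presentation. -/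
theorem mem_interior_sectionComponents_fp (f : X ⟶ Y) [Flat f] [LocallyOfFinitePresentation f] [QuasiCompact f]
    [QuasiSeparated f] (g : Y ⟶ X) (hg : g ≫ f = 𝟙 Y) (y : Y)
    (hred : ∀ x ∈ comp f g y, FBase.IsGeomReducedAt (f.fiberToSpecResidueField (f x)) (f.asFiber x))
    (x : X) (hx : x ∈ comp f g y) : x ∈ interior (MoreMor.sectionComponents f g) := by
  obtain ⟨S, _, j, _, B, _, _, -, hyS, -, P, fP, sP, σ, a, hlfp, hqc, hqs, hsP, sq, hga, hflat, -⟩ :=
    exists_section_model f g hg y ⊤ trivial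
  haveI := hlfp
  haveI := hflat inferInstance
  obtain ⟨p, rfl⟩ := hyS
  let fS := pullback.snd f j
  let gS := sectionBC f g hg j
  have hgS : gS ≫ fS = 𝟙 _ := sectionBC_snd f g hg j
  have h0 := FlatMorSection.sectionComponents_baseChange f g hg fS (pullback.fst f j) j
    (IsPullback.of_hasPullback f j) gS hgS (sectionBC_fst f g hg j)
  have h1 := FlatMorSection.sectionComponents_baseChange fP sP hsP fS a σ sq gS hgS hga
  have hfx : f x = j p := comp_subset f g _ hx
  obtain ⟨v, hv, hvp⟩ := Scheme.Pullback.exists_preimage_pullback (f := f) (g := j) x p hfx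
  have hmem : ∀ w, fS w = p → (pullback.fst f j w ∈ comp f g (j p) ↔ a w ∈ comp fP sP (σ p)) := by
    intro w hw
    have e1 : f (pullback.fst f j w) = j p := (congrArg (fun φ : pullback f j ⟶ Y => φ w) pullback.condition).trans
      (congrArg j hw)
    have e2 : fP (a w) = σ p := (congrArg (fun φ : pullback f j ⟶ Spec (CommRingCat.of B) => φ w) sq.w).trans
      (congrArg σ hw)
    rw [← e1, ← mem_sectionComponents_iff, ← e2, ← mem_sectionComponents_iff]
    exact (Set.ext_iff.1 (h0.symm.trans h1) w)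
  have hint : a v ∈ interior (MoreMor.sectionComponents fP sP) := by
    refine mem_interior_sectionComponents fP sP hsP (σ p) (fun z hz => ⟨DvrCrit.isUnivOpenAt_of_universallyOpen fP z, ?_⟩)
      (a v) ((hmem v hvp).1 (hv ▸ hx))
    obtain ⟨w, hwz, hwp⟩ := Scheme.exists_preimage_of_isPullback sq z p (comp_subset fP sP _ hz)
    rw [← hwz]
    refine isGeomReducedAt_of_isPullback fP σ sq w ((isGeomReducedAt_isPullback_iff f j (IsPullback.of_hasPullback f j) w).2 ?_)
    exact hred _ ((hmem w hwp).2 (hwz ▸ hz))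
  rw [mem_interior_iff_mem_nhds] at hint ⊢
  have h2 : MoreMor.sectionComponents fS gS ∈ nhds v := by
    rw [h1]
    exact a.continuous.continuousAt.preimage_mem_nhds hint
  refine Filter.mem_of_superset (hv ▸ (pullback.fst f j).isOpenEmbedding.isOpenMap.image_mem_nhds h2) ?_
  rintro _ ⟨w, hw, rfl⟩
  exact h0.le hw

/-- EGA IV 15.6.7 for morphisms of finite presentation. -/
theorem isOpen_goodSectionLocus_fp (f : X ⟶ Y) [LocallyOfFinitePresentation f] [QuasiCompact f]
    [QuasiSeparated f] (g : Y ⟶ X) (hg : g ≫ f = 𝟙 Y) (hgi : ∀ z, IsGeomIrrComp f g z) :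
    IsOpen {x : X | x ∈ MoreMor.sectionComponents f g ∧
      (∃ V ∈ nhds (f.base x), ∀ z ∈ V, topologicalKrullDim ↥(comp f g z) = topologicalKrullDim ↥(comp f g (f.base x))) ∧
      FBase.IsGeomReducedAt (f.fiberToSpecResidueField (f.base x)) (f.asFiber x)} := by
  refine isOpen_iff_mem_nhds.2 fun x ⟨hx, ⟨V, hV, hc⟩, hred⟩ => ?_
  obtain ⟨V', hV'V, hV'o, hxV'⟩ := mem_nhds_iff.1 hV
  obtain ⟨η₀, hη₀, hgen₀, -⟩ := exists_generic_comp f g hg (f x) (isIrreducible_comp_of_geom f g _ (hgi _ _))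
  let n := trdAt f η₀
  have hn : topologicalKrullDim ↥(comp f g (f x)) = (n : WithBot ℕ∞) := topologicalKrullDim_comp_eq f g hg _ hη₀ hgen₀
  obtain ⟨S, _, j, _, B, _, _, hB, hyS, hSV, P, fP, sP, σ, a, hlfp, hqc, hqs, hsP, sq, hga, -⟩ :=
    exists_section_model f g hg (f x) ⟨V', hV'o⟩ hxV'
  haveI := hlfp
  haveI := hqc
  let fS := pullback.snd f j
  let gS := sectionBC f g hg j
  have hgS : gS ≫ fS = 𝟙 _ := sectionBC_snd f g hg j
  haveI : LocallyOfFinitePresentation fS :=
    MorphismProperty.pullback_snd (P := @LocallyOfFinitePresentation) _ _ inferInstance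
  have sq₀ := IsPullback.of_hasPullback f j
  have hgiS : ∀ t, IsGeomIrrComp fS gS t := fun t =>
    (isGeomIrrComp_baseChange_iff f g fS gS _ j sq₀ hg hgS (sectionBC_fst f g hg j) t).2 (hgi _)
  have hdS : ∀ t, topologicalKrullDim ↥(comp fS gS t) = (n : WithBot ℕ∞) := fun t => by
    rw [dim_comp_eq_of_isPullback f g fS gS _ j sq₀ hg hgS (sectionBC_fst f g hg j) t (hgi _), ← hn]
    exact hc _ (hV'V (hSV ⟨t, rfl⟩))
  obtain ⟨ι, hι⟩ := Spec.map_surjective (S.isoSpec.inv ≫ σ)
  have hgiP : ∀ t, IsGeomIrrComp fP sP (σ t) := fun t =>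
    (isGeomIrrComp_baseChange_iff fP sP fS gS a σ sq hsP hgS hga t).1 (hgiS t)
  obtain ⟨A₁, _, α, β, hαβ, hA₁, hall⟩ := FlatMorApprox.exists_fg_refinement ι.hom hB _
    (isConstructible_good fP sP hsP n) (fun p => by
      have hp : σ (S.isoSpec.inv p) = PrimeSpectrum.comap ι.hom p := by
        show (S.isoSpec.inv ≫ σ) p = _
        rw [← hι]
        rfl
      rw [← hp]
      exact ⟨hgiP _, (dim_comp_eq_of_isPullback fP sP fS gS a σ sq hsP hgS hga _ (hgiP _)).symm.trans (hdS _)⟩)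
  let m : Spec (CommRingCat.of A₁) ⟶ Spec (CommRingCat.of B) := Spec.map (CommRingCat.ofHom α)
  let b : S ⟶ Spec (CommRingCat.of A₁) := S.isoSpec.hom ≫ Spec.map (CommRingCat.ofHom β)
  have hbm : b ≫ m = σ := by
    simp only [b, m, Category.assoc, ← Spec.map_comp, ← CommRingCat.ofHom_comp, hαβ,
      CommRingCat.ofHom_hom, hι, Iso.hom_inv_id_assoc]
  haveI : Algebra.FiniteType ℤ A₁ := RingHom.finiteType_algebraMap.1 hA₁
  haveI : IsNoetherianRing A₁ := Algebra.FiniteType.isNoetherianRing ℤ _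
  let f₁ := pullback.snd fP m
  let s₁ := sectionBC fP sP hsP m
  have hs₁ : s₁ ≫ f₁ = 𝟙 _ := sectionBC_snd _ _ hsP m
  haveI : LocallyOfFiniteType f₁ := MorphismProperty.pullback_snd _ _ inferInstance
  haveI : LocallyOfFiniteType fP := inferInstance
  have hgi₁ : ∀ t, IsGeomIrrComp f₁ s₁ t := fun t =>
    (isGeomIrrComp_baseChange_iff fP sP f₁ s₁ _ m (IsPullback.of_hasPullback fP m) hsP hs₁
      (sectionBC_fst _ _ hsP m) t).2 (hall t).1
  have hd₁ : ∀ t, topologicalKrullDim ↥(comp f₁ s₁ t) = (n : WithBot ℕ∞) := fun t =>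
    (dim_comp_eq_of_isPullback fP sP f₁ s₁ _ m (IsPullback.of_hasPullback fP m) hsP hs₁
      (sectionBC_fst _ _ hsP m) t (hall t).1).trans (hall t).2
  let a₁ : pullback f j ⟶ pullback fP m := pullback.lift a (fS ≫ b) (by rw [Category.assoc, hbm, sq.w])
  have sq₁ : IsPullback a₁ fS f₁ b := by
    refine IsPullback.of_right ?_ (pullback.lift_snd _ _ _) (IsPullback.of_hasPullback fP m)
    rw [pullback.lift_fst, hbm]
    exact sq
  have hga₁ : gS ≫ a₁ = b ≫ s₁ := by
    apply pullback.hom_ext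
    · rw [Category.assoc, pullback.lift_fst, hga, Category.assoc b s₁, sectionBC_fst, ← Category.assoc b, hbm]
    · rw [Category.assoc, pullback.lift_snd, ← Category.assoc, hgS, Category.id_comp, Category.assoc b s₁,
        sectionBC_snd, Category.comp_id]
  have h0 := FlatMorSection.sectionComponents_baseChange f g hg fS (pullback.fst f j) j sq₀ gS hgS
    (sectionBC_fst f g hg j)
  have h1 := FlatMorSection.sectionComponents_baseChange f₁ s₁ hs₁ fS a₁ b sq₁ gS hgS hga₁
  obtain ⟨p, hp⟩ := hyS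
  obtain ⟨v, hv, -⟩ := Scheme.Pullback.exists_preimage_pullback (f := f) (g := j) x p hp.symm
  let W₁ : Set ↥(pullback fP m) := {z | z ∈ MoreMor.sectionComponents f₁ s₁ ∧
      (∃ V ∈ nhds (f₁.base z), ∀ t ∈ V, topologicalKrullDim ↥(comp f₁ s₁ t) = topologicalKrullDim ↥(comp f₁ s₁ (f₁.base z))) ∧
      FBase.IsGeomReducedAt (f₁.fiberToSpecResidueField (f₁.base z)) (f₁.asFiber z)}
  have hW₁ : IsOpen W₁ := isOpen_goodSectionLocus f₁ s₁ hs₁ fun z K _ _ => hgi₁ z K
  have hvW : a₁ v ∈ W₁ := by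
    refine ⟨(Set.ext_iff.1 (h0.symm.trans h1) v).1 (show pullback.fst f j v ∈ MoreMor.sectionComponents f g from hv ▸ hx),
      ⟨Set.univ, Filter.univ_mem, fun t _ => (hd₁ t).trans (hd₁ _).symm⟩, ?_⟩
    exact isGeomReducedAt_of_isPullback f₁ b sq₁ v ((isGeomReducedAt_isPullback_iff f j sq₀ v).2 (hv ▸ hred))
  refine Filter.mem_of_superset
    (hv ▸ (pullback.fst f j).isOpenEmbedding.isOpenMap.image_mem_nhds ((hW₁.preimage a₁.continuous).mem_nhds hvW)) ?_
  rintro _ ⟨w, ⟨hwS, -, hwred⟩, rfl⟩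
  refine ⟨(Set.ext_iff.1 (h0.symm.trans h1) w).2 hwS, ⟨V', hV'o.mem_nhds ?_, fun z hz => ?_⟩, ?_⟩
  · exact hSV ⟨fS w, (congrArg (fun φ : pullback f j ⟶ Y => φ w) pullback.condition).symm⟩
  · refine (hc z (hV'V hz)).trans (hc _ (hV'V ?_)).symm
    exact hSV ⟨fS w, (congrArg (fun φ : pullback f j ⟶ Y => φ w) pullback.condition).symm⟩
  · exact (isGeomReducedAt_isPullback_iff f j sq₀ w).1 ((isGeomReducedAt_isPullback_iff f₁ b sq₁ w).2 hwred)

end Groth.Agent.EGA43.SectionComp
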