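import Groth.Agent.EGA43.SectionComp.UnivOpen
import Groth.Agent.H8Lim.NoetherianModel
import Groth.Agent.H8Lim.DescentMore

/-!
# Noetherian models of a finitely presented morphism with a section
-/

set_option autoImplicit false
set_option backward.isDefEq.respectTransparency false
set_option linter.style.haveILetI false

universe u

open CategoryTheory CategoryTheory.Limits AlgebraicGeometry TopologicalSpace Opposite

namespace Groth.Agent.EGA43.SectionComp

open Groth.Agent

theorem exists_model_flatIf {R : Type u} [CommRing R] {X : Scheme.{u}} (f : X ⟶ Spec (CommRingCat.of R))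
    [LocallyOfFinitePresentation f] [QuasiCompact f] [QuasiSeparated f] :
    ∃ (k : (Finset R)ᵒᵖ) (X₀ : Scheme.{u}) (f₀ : X₀ ⟶ (H8Lim.fgSpecDiagram R).obj k) (q : X ⟶ X₀),
      LocallyOfFinitePresentation f₀ ∧ QuasiCompact f₀ ∧ QuasiSeparated f₀ ∧
      IsPullback q f f₀ ((H8Lim.fgSpecCone R).π.app k) ∧ (Flat f → Flat f₀) ∧ (IsSeparated f → IsSeparated f₀) := by
  obtain ⟨j, Z, h, q, h1, h2, h3, sq⟩ := H8Lim.exists_stage_spec f
  have key : ∀ {j : (Finset R)ᵒᵖ} {Z : Scheme.{u}} (h : Z ⟶ (H8Lim.fgSpecDiagram R).obj j) (q : X ⟶ Z),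
      LocallyOfFinitePresentation h → QuasiCompact h → QuasiSeparated h →
      IsPullback q f h ((H8Lim.fgSpecCone R).π.app j) → (Flat f → Flat h) →
      ∃ (k : (Finset R)ᵒᵖ) (X₀ : Scheme.{u}) (f₀ : X₀ ⟶ (H8Lim.fgSpecDiagram R).obj k) (q : X ⟶ X₀),
        LocallyOfFinitePresentation f₀ ∧ QuasiCompact f₀ ∧ QuasiSeparated f₀ ∧
        IsPullback q f f₀ ((H8Lim.fgSpecCone R).π.app k) ∧ (Flat f → Flat f₀) ∧ (IsSeparated f → IsSeparated f₀) := by
    intro j Z h q h1 h2 h3 sq h4
    by_cases hs : IsSeparated f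
    · obtain ⟨k, φ, hk⟩ := H8Lim.descends_isSeparated (H8Lim.fgSpecDiagram R) (H8Lim.fgSpecCone R)
        (H8Lim.isLimitFgSpecCone R) (fun _ => inferInstance) j h trivial f q sq hs
      exact ⟨k, _, pullback.snd h ((H8Lim.fgSpecDiagram R).map φ), _,
        MorphismProperty.pullback_snd (P := @LocallyOfFinitePresentation) _ _ h1,
        MorphismProperty.pullback_snd (P := @QuasiCompact) _ _ h2,
        MorphismProperty.pullback_snd (P := @QuasiSeparated) _ _ h3,
        H8Lim.isPullback_later (D := H8Lim.fgSpecDiagram R) (c := H8Lim.fgSpecCone R) sq φ (H8Lim.eq_later sq φ),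
        fun hf => MorphismProperty.pullback_snd (P := @Flat) _ _ (h4 hf), fun _ => hk⟩
    · exact ⟨j, Z, h, q, h1, h2, h3, sq, h4, fun h => absurd h hs⟩
  by_cases hf : Flat f
  · obtain ⟨k, φ, hk⟩ := H8Lim.exists_stage_flat f j h q sq hf
    exact key (pullback.snd h ((H8Lim.fgSpecDiagram R).map φ)) _
      (MorphismProperty.pullback_snd (P := @LocallyOfFinitePresentation) _ _ h1)
      (MorphismProperty.pullback_snd (P := @QuasiCompact) _ _ h2)
      (MorphismProperty.pullback_snd (P := @QuasiSeparated) _ _ h3)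
      (H8Lim.isPullback_later (D := H8Lim.fgSpecDiagram R) (c := H8Lim.fgSpecCone R) sq φ (H8Lim.eq_later sq φ))
      fun _ => hk
  · exact key h q h1 h2 h3 sq fun h => absurd h hf

/-- A finitely presented morphism with a section comes, near a point of the base, from one over an
affine Noetherian base with its universal section. -/
theorem exists_section_model {X Y : Scheme.{u}} (f : X ⟶ Y) [LocallyOfFinitePresentation f] [QuasiCompact f]
    [QuasiSeparated f] (g : Y ⟶ X) (hg : g ≫ f = 𝟙 Y) (y₀ : Y) (N : Y.Opens) (hN : y₀ ∈ N) :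
    ∃ (S : Scheme.{u}) (_ : IsAffine S) (j : S ⟶ Y) (_ : IsOpenImmersion j) (B : Type u) (_ : CommRing B)
      (_ : IsNoetherianRing B), (algebraMap ℤ B).FiniteType ∧ y₀ ∈ Set.range j ∧ Set.range j ⊆ N ∧
      ∃ (P : Scheme.{u}) (fP : P ⟶ Spec (CommRingCat.of B)) (sP : Spec (CommRingCat.of B) ⟶ P)
        (σ : S ⟶ Spec (CommRingCat.of B)) (a : pullback f j ⟶ P),
        LocallyOfFinitePresentation fP ∧ QuasiCompact fP ∧ QuasiSeparated fP ∧ sP ≫ fP = 𝟙 _ ∧
        IsPullback a (pullback.snd f j) fP σ ∧ sectionBC f g hg j ≫ a = σ ≫ sP ∧ (Flat f → Flat fP) ∧ (IsSeparated f → IsSeparated fP) := by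
  obtain ⟨S₁, hS₁, hyS₁, hS₁N⟩ := exists_isAffineOpen_mem_and_subset (x := y₀) (U := N) hN
  let R := Γ(Y, S₁)
  let j₁ : Spec (CommRingCat.of R) ⟶ Y := hS₁.fromSpec
  haveI : IsOpenImmersion j₁ := inferInstanceAs (IsOpenImmersion hS₁.fromSpec)
  obtain ⟨p₀, hp₀⟩ : y₀ ∈ Set.range j₁ := hS₁.range_fromSpec.ge hyS₁
  let f₁ := pullback.snd f j₁
  let g₁ := sectionBC f g hg j₁
  haveI : LocallyOfFinitePresentation f₁ :=
    MorphismProperty.pullback_snd (P := @LocallyOfFinitePresentation) _ _ inferInstance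
  obtain ⟨k, X₀, f₀, q, hlfp, hqc, hqs, sq, hflat, hsep⟩ := exists_model_flatIf f₁
  haveI := hlfp
  let σ₁ := g₁ ≫ q
  obtain ⟨W₀, hW₀, hpW₀, -⟩ := exists_isAffineOpen_mem_and_subset (x := σ₁ p₀) (U := ⊤) trivial
  obtain ⟨W, hW, hpW, hWW₀⟩ := exists_isAffineOpen_mem_and_subset (x := p₀) (U := σ₁ ⁻¹ᵁ W₀) hpW₀
  let j : W.toScheme ⟶ Y := W.ι ≫ j₁
  let w : Spec (CommRingCat.of Γ(X₀, W₀)) ⟶ X₀ := hW₀.fromSpec
  haveI : IsOpenImmersion w := inferInstanceAs (IsOpenImmersion hW₀.fromSpec)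
  have hrange : Set.range (W.ι ≫ σ₁) ⊆ Set.range w := by
    rw [show Set.range w = (W₀ : Set X₀) from hW₀.range_fromSpec]
    rintro _ ⟨t, rfl⟩
    exact hWW₀ t.2
  let σ : W.toScheme ⟶ Spec (CommRingCat.of Γ(X₀, W₀)) := IsOpenImmersion.lift w (W.ι ≫ σ₁) hrange
  have hσ : σ ≫ w = W.ι ≫ σ₁ := IsOpenImmersion.lift_fac _ _ _
  have hB : (algebraMap ℤ Γ(X₀, W₀)).FiniteType := by
    have h1 : (f₀.appLE ⊤ W₀ le_top).hom.FiniteType :=
      HasRingHomProperty.appLE @LocallyOfFiniteType f₀ inferInstance ⟨⊤, isAffineOpen_top _⟩ ⟨W₀, hW₀⟩ le_top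
    have h2 : (algebraMap ℤ Γ((H8Lim.fgSpecDiagram R).obj k, ⊤)).FiniteType := by
      have h3 : (algebraMap ℤ (H8Lim.fgSub R k.unop)).FiniteType :=
        RingHom.finiteType_algebraMap.2 (.adjoin_of_finite k.unop.finite_toSet)
      have h4 := (RingHom.FiniteType.of_surjective _
        (Scheme.ΓSpecIso (CommRingCat.of (H8Lim.fgSub R k.unop))).symm.commRingCatIsoToRingEquiv.surjective).comp h3
      rwa [RingHom.ext_int (RingHom.comp _ _) (algebraMap ℤ Γ((H8Lim.fgSpecDiagram R).obj k, ⊤))] at h4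
    have h5 := h1.comp h2
    rwa [RingHom.ext_int (RingHom.comp _ _) (algebraMap ℤ Γ(X₀, W₀))] at h5
  haveI : Algebra.FiniteType ℤ Γ(X₀, W₀) := RingHom.finiteType_algebraMap.1 hB
  refine ⟨W.toScheme, hW, j, inferInstance, Γ(X₀, W₀), inferInstance, Algebra.FiniteType.isNoetherianRing ℤ _, hB,
    ⟨⟨p₀, hpW⟩, hp₀⟩, ?_, ?_⟩
  · rintro _ ⟨t, rfl⟩
    exact hS₁N (hS₁.range_fromSpec.le ⟨W.ι t, rfl⟩)
  let fP := pullback.snd f₀ (w ≫ f₀)
  let sP : Spec (CommRingCat.of Γ(X₀, W₀)) ⟶ pullback f₀ (w ≫ f₀) := pullback.lift w (𝟙 _) (by rw [Category.id_comp])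
  let t : pullback f j ⟶ pullback f j₁ :=
    pullback.lift (pullback.fst f j) (pullback.snd f j ≫ W.ι) (by rw [Category.assoc]; exact pullback.condition)
  have sqt : IsPullback t (pullback.snd f j) f₁ W.ι := by
    refine IsPullback.of_right ?_ (pullback.lift_snd _ _ _) (IsPullback.of_hasPullback f j₁)
    rw [pullback.lift_fst]
    exact IsPullback.of_hasPullback f j
  have hbase : W.ι ≫ (H8Lim.fgSpecCone R).π.app k = σ ≫ w ≫ f₀ := by
    rw [reassoc_of% hσ, Category.assoc, sq.w, ← Category.assoc g₁, sectionBC_snd, Category.id_comp]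
  have sqX := sqt.paste_horiz sq
  let a : pullback f j ⟶ pullback f₀ (w ≫ f₀) :=
    pullback.lift (t ≫ q) (pullback.snd f j ≫ σ) (by rw [sqX.w, hbase, Category.assoc])
  refine ⟨_, fP, sP, σ, a, MorphismProperty.pullback_snd (P := @LocallyOfFinitePresentation) _ _ hlfp,
    MorphismProperty.pullback_snd (P := @QuasiCompact) _ _ hqc,
    MorphismProperty.pullback_snd (P := @QuasiSeparated) _ _ hqs, pullback.lift_snd _ _ _, ?_, ?_,
    fun hf => MorphismProperty.pullback_snd (P := @Flat) _ _ (hflat (MorphismProperty.pullback_snd (P := @Flat) _ _ hf)),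
    fun hf => MorphismProperty.pullback_snd (P := @IsSeparated) _ _
      (hsep (MorphismProperty.pullback_snd (P := @IsSeparated) _ _ hf))⟩
  · refine IsPullback.of_right ?_ (pullback.lift_snd _ _ _) (IsPullback.of_hasPullback f₀ (w ≫ f₀))
    rw [pullback.lift_fst, ← hbase]
    exact sqX
  · have ht : sectionBC f g hg j ≫ t = W.ι ≫ g₁ := by
      apply pullback.hom_ext
      · rw [Category.assoc, pullback.lift_fst, sectionBC_fst, Category.assoc W.ι g₁, sectionBC_fst]
        exact Category.assoc _ _ _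
      · rw [Category.assoc, pullback.lift_snd, ← Category.assoc, sectionBC_snd, Category.id_comp, Category.assoc W.ι g₁,
          sectionBC_snd, Category.comp_id]
    apply pullback.hom_ext
    · rw [Category.assoc, pullback.lift_fst, Category.assoc σ sP, pullback.lift_fst, hσ, reassoc_of% ht]
    · rw [Category.assoc, pullback.lift_snd, ← Category.assoc, sectionBC_snd, Category.id_comp, Category.assoc σ sP,
        pullback.lift_snd, Category.comp_id]

end Groth.Agent.EGA43.SectionComp
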