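import Groth.Agent.EGA43.SectionComp.UnivOpen
import Groth.Agent.EGA43.DvrCrit.Equidim
import Groth.Agent.EGA43.DimFormula.Levels

/-!
# EGA IV 15.6.6 (ii): local constancy of the dimension of section components
-/

set_option autoImplicit false
set_option backward.isDefEq.respectTransparency false
set_option linter.style.haveILetI false

universe u

open CategoryTheory CategoryTheory.Limits AlgebraicGeometry TopologicalSpace IsLocalRing

namespace Groth.Agent.EGA43.SectionComp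

open Groth.Agent Groth.Agent.EGA43.DimFormula FlatMorWeight

variable {X Y : Scheme.{u}} (f : X ⟶ Y) (g : Y ⟶ X)

theorem eventually_eq_of_generic_le [IsLocallyNoetherian Y] [LocallyOfFiniteType f] (hg : g ≫ f = 𝟙 Y)
    (hirr : ∀ z, IsIrreducible (comp f g z)) (y₀ : Y)
    (hge : ∀ η : Y, IsMaximalPt η → η ⤳ y₀ →
      topologicalKrullDim ↥(comp f g y₀) ≤ topologicalKrullDim ↥(comp f g η)) :
    ∃ V ∈ nhds y₀, ∀ z ∈ V, topologicalKrullDim ↥(comp f g z) = topologicalKrullDim ↥(comp f g y₀) := by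
  obtain ⟨V₁, hy₁, hV₁⟩ := DvrCrit.exists_open_components_through (X := Y) y₀
  have hd : ∀ z, FlatMor.fibreDimAt f (g z) = topologicalKrullDim ↥(comp f g z) := fun z =>
    fibreDimAt_eq_dim_comp f g hg z (hirr z) (mem_comp_self f g hg z)
  obtain ⟨η₀, hη₀, hgen₀, -⟩ := exists_generic_comp f g hg y₀ (hirr y₀)
  have hn := topologicalKrullDim_comp_eq f g hg y₀ hη₀ hgen₀
  refine ⟨(V₁ : Set Y) ∩ g.base ⁻¹' {x | FlatMor.fibreDimAt f x ≤ (trdAt f η₀ : WithBot ℕ∞)},
    Filter.inter_mem (V₁.isOpen.mem_nhds hy₁)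
      (((FlatMorDim.isOpen_fibreDimAt_le f (trdAt f η₀)).preimage g.continuous).mem_nhds
        (show FlatMor.fibreDimAt f (g y₀) ≤ _ from ((hd y₀).trans hn).le)), fun z hz => ?_⟩
  refine le_antisymm ((hd z).symm.le.trans (le_trans hz.2 hn.ge)) ?_
  obtain ⟨P, hP, -⟩ := Ideal.exists_minimalPrimes_le (I := (⊥ : Ideal (Y.presheaf.stalk z)))
    (J := maximalIdeal _) bot_le
  have hη : IsMaximalPt (toPt z ⟨P, hP.1.1⟩) := (mem_minimalPrimes_iff z ⟨P, hP.1.1⟩).1 hP
  have hηz : toPt z ⟨P, hP.1.1⟩ ⤳ z := toPt_specializes z _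
  exact (hge _ hη (hV₁ _ (hηz.mem_open V₁.isOpen hz.1) hη)).trans
    (dim_comp_le_of_irreducible f g hg hηz (hirr _)).1

theorem geomAt_hopen (hg : g ≫ f = 𝟙 Y) (y₀ : Y)
    (hopen : ∀ ξ ∈ comp f g y₀, comp f g y₀ ⊆ closure {ξ} → EGA43.IsUnivOpenAt f ξ)
    (hC : IsIrreducible (comp f g y₀)) {x : X} (hx : x ∈ comp f g y₀) {w : X} (hwx : w ⤳ x) (hwy : f w = f x)
    (hmax : ∀ t, t ⤳ w → f t = f x → t = w) :
    EGA43.IsUnivOpenAt f w ∧ ∀ η ∈ comp f g y₀, (∀ a ∈ comp f g y₀, η ⤳ a) → w = η := by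
  obtain ⟨η, hη, hgen, -⟩ := exists_generic_comp f g hg y₀ hC
  have hwC := mem_comp_of_specializes f g hx (hwy.trans (comp_subset f g y₀ hx)) (Or.inl hwx)
  have hwη : η = w := hmax η (hgen w hwC) ((comp_subset f g y₀ hη).trans (comp_subset f g y₀ hx).symm)
  subst hwη
  exact ⟨hopen η hη fun a ha => specializes_iff_mem_closure.1 (hgen a ha),
    fun η' hη' hgen' => ((hgen η' hη').antisymm (hgen' η hη)).eq⟩

/-- (α): geometrically reduced at the section point. -/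
theorem generic_le_of_geomReduced [IsLocallyNoetherian Y] [LocallyOfFiniteType f] (hg : g ≫ f = 𝟙 Y)
    (hirr : ∀ z, IsIrreducible (comp f g z)) (y₀ : Y)
    (hopen : ∀ ξ ∈ comp f g y₀, comp f g y₀ ⊆ closure {ξ} → EGA43.IsUnivOpenAt f ξ)
    (hred : FBase.IsGeomReducedAt (f.fiberToSpecResidueField (f (g y₀))) (f.asFiber (g y₀)))
    {η : Y} (hη : IsMaximalPt η) (hηy : η ⤳ y₀) :
    topologicalKrullDim ↥(comp f g y₀) ≤ topologicalKrullDim ↥(comp f g η) := by
  obtain ⟨η₀, hη₀, hgen₀, -⟩ := exists_generic_comp f g hg y₀ (hirr y₀)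
  obtain ⟨P, hP, -⟩ := Ideal.exists_minimalPrimes_le (I := (⊥ : Ideal (X.presheaf.stalk (g η))))
    (J := maximalIdeal _) bot_le
  set ξ := toPt (g η) ⟨P, hP.1.1⟩ with hξ_def
  have hξ : IsMaximalPt ξ := (mem_minimalPrimes_iff (g η) ⟨P, hP.1.1⟩).1 hP
  have hξg : ξ ⤳ g η := toPt_specializes _ _
  have hfξ : f ξ = η := hη _ (by
    have := hξg.map f.continuous
    rwa [apply_section f g hg η] at this)
  have hξC : ξ ∈ comp f g η := mem_comp_of_specializes f g (mem_comp_self f g hg η) hfξ (Or.inl hξg)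
  have he := DvrCrit.trdAt_maximal_eq f (g y₀) (trdAt f η₀)
    (fun w hw hwy hwmax => (geomAt_hopen f g hg y₀ hopen (hirr y₀) (mem_comp_self f g hg y₀) hw hwy hwmax).1)
    hred
    (fun w hw hwy hwmax => congrArg (trdAt f)
      ((geomAt_hopen f g hg y₀ hopen (hirr y₀) (mem_comp_self f g hg y₀) hw hwy hwmax).2 η₀ hη₀ hgen₀))
    hξ (hξg.trans (hηy.map g.continuous))
  rw [topologicalKrullDim_comp_eq f g hg y₀ hη₀ hgen₀, ← he]
  exact le_topologicalKrullDim_comp f g hg η hξC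

/-- (β): the component has the dimension of the fibre at generic points of the base. -/
theorem generic_le_of_dim_fibre [LocallyOfFiniteType f] (hg : g ≫ f = 𝟙 Y)
    (hirr : ∀ z, IsIrreducible (comp f g z)) (y₀ : Y)
    (hopen : ∀ ξ ∈ comp f g y₀, comp f g y₀ ⊆ closure {ξ} → EGA43.IsUnivOpenAt f ξ)
    {η : Y} (hηy : η ⤳ y₀) (hdim : topologicalKrullDim ↥(f.fiber η) = topologicalKrullDim ↥(comp f g η)) :
    topologicalKrullDim ↥(comp f g y₀) ≤ topologicalKrullDim ↥(comp f g η) := by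
  obtain ⟨η₀, hη₀, hgen₀, hmax₀⟩ := exists_generic_comp f g hg y₀ (hirr y₀)
  have hy₀ := comp_subset f g y₀ hη₀
  obtain ⟨w, -, hfw, hd⟩ := exists_generization_of_isUnivOpenAt f
    (fun t ht he => hmax₀ t ht (he.trans hy₀))
    (hopen η₀ hη₀ fun a ha => specializes_iff_mem_closure.1 (hgen₀ a ha)) (hy₀.symm ▸ hηy)
  subst hfw
  rw [topologicalKrullDim_comp_eq f g hg y₀ hη₀ hgen₀, ← hdim]
  refine le_trans (by exact_mod_cast hd : (trdAt f η₀ : WithBot ℕ∞) ≤ trdAt f w) ?_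
  refine (Chevalley.le_topologicalKrullDim_inter_fibre f isClosed_univ.isLocallyClosed (Set.mem_univ w)).trans_eq ?_
  exact (((f.fiberHomeo (f w)).trans (Homeomorph.setCongr (Set.univ_inter _).symm)).isHomeomorph.topologicalKrullDim_eq).symm

end Groth.Agent.EGA43.SectionComp
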