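import Groth.Agent.EGA43.SectionComp.Const
import Groth.Agent.FlatMor12.DimRetro
import Groth.Agent.H8Lim.ProConsLimit
import Groth.Agent.EGA43.DvrCrit.UnivOpenNhd

/-!
# EGA IV 15.6.6 (ii) for morphisms of finite presentation
-/

set_option autoImplicit false
set_option backward.isDefEq.respectTransparency false
set_option linter.style.haveILetI false

universe u

open CategoryTheory CategoryTheory.Limits AlgebraicGeometry TopologicalSpace IsLocalRing

namespace Groth.Agent.EGA43.SectionComp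

open Groth.Agent Groth.Agent.EGA43.DimFormula FlatMorWeight

variable {X Y : Scheme.{u}} (f : X ⟶ Y) (g : Y ⟶ X)

/-- Constancy of `dim X⁰_z` near `y₀` follows from constancy on the generizations of `y₀`. -/
theorem eventually_eq_of_generizations [LocallyOfFinitePresentation f] (hg : g ≫ f = 𝟙 Y)
    (hirr : ∀ z, IsIrreducible (comp f g z)) (y₀ : Y)
    (hgen : ∀ z, z ⤳ y₀ → topologicalKrullDim ↥(comp f g y₀) ≤ topologicalKrullDim ↥(comp f g z)) :
    ∃ V ∈ nhds y₀, ∀ z ∈ V, topologicalKrullDim ↥(comp f g z) = topologicalKrullDim ↥(comp f g y₀) := by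
  have hd : ∀ z, FlatMor.fibreDimAt f (g z) = topologicalKrullDim ↥(comp f g z) := fun z =>
    fibreDimAt_eq_dim_comp f g hg z (hirr z) (mem_comp_self f g hg z)
  obtain ⟨η₀, hη₀, hgen₀, -⟩ := exists_generic_comp f g hg y₀ (hirr y₀)
  have hn := topologicalKrullDim_comp_eq f g hg y₀ hη₀ hgen₀
  have hle : IsOpen (g.base ⁻¹' {x | FlatMor.fibreDimAt f x ≤ (trdAt f η₀ : WithBot ℕ∞)}) :=
    (FlatMorDim.isOpen_fibreDimAt_le f (trdAt f η₀)).preimage g.continuous
  have hy₀ : y₀ ∈ g.base ⁻¹' {x | FlatMor.fibreDimAt f x ≤ (trdAt f η₀ : WithBot ℕ∞)} :=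
    ((hd y₀).trans hn).le
  rcases hdn : trdAt f η₀ with _ | k
  · refine ⟨_, hle.mem_nhds hy₀, fun z hz => le_antisymm ((hd z).symm.le.trans (le_trans hz hn.ge)) ?_⟩
    obtain ⟨η, hη, hgenη, -⟩ := exists_generic_comp f g hg z (hirr z)
    rw [hn, topologicalKrullDim_comp_eq f g hg z hη hgenη, hdn]
    exact_mod_cast Nat.zero_le _
  · obtain ⟨V, hV, hyV, -⟩ := exists_isAffineOpen_mem_and_subset (x := y₀) (U := ⊤) trivial
    obtain ⟨U, hU, hgU, hUV⟩ := exists_isAffineOpen_mem_and_subset (x := g y₀) (U := f ⁻¹ᵁ V)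
      (show f (g y₀) ∈ V from (apply_section f g hg y₀).symm ▸ hyV)
    obtain ⟨V', hV', hyV', hV'U⟩ := exists_isAffineOpen_mem_and_subset (x := y₀) (U := g ⁻¹ᵁ U ⊓ V) ⟨hgU, hyV⟩
    have hc := FlatMor12.isCompact_fibreDimAt_le_inter f hV hU hUV k
    let gV : V'.toScheme ⟶ U.toScheme := g.resLE U V' (hV'U.trans Set.inter_subset_left)
    haveI : IsAffine V'.toScheme := hV'
    haveI : IsAffine U.toScheme := hU
    have hgV : ∀ z : V'.toScheme, (gV z).1 = g z.1 := fun z =>
      congrArg (fun φ : V'.toScheme ⟶ X => φ z)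
        (Scheme.Hom.resLE_comp_ι g (U := U) (e := hV'U.trans Set.inter_subset_left))
    have hEc : IsCompact (U.ι.base ⁻¹' {x | FlatMor.fibreDimAt f x ≤ (k : WithBot ℕ∞)}) := by
      rw [U.ι.isEmbedding.isInducing.isCompact_iff, Set.image_preimage_eq_inter_range, U.range_ι]
      exact hc
    have hEo : IsOpen (U.ι.base ⁻¹' {x | FlatMor.fibreDimAt f x ≤ (k : WithBot ℕ∞)}) :=
      (FlatMorDim.isOpen_fibreDimAt_le f k).preimage U.ι.continuous
    haveI : IsAffineHom gV := inferInstance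
    have hKc : IsCompact (gV.base ⁻¹' (U.ι.base ⁻¹' {x | FlatMor.fibreDimAt f x ≤ (k : WithBot ℕ∞)})) :=
      QuasiCompact.isCompact_preimage (f := gV) _ hEo hEc
    have hKcons : Topology.IsConstructible
        (gV.base ⁻¹' (U.ι.base ⁻¹' {x | FlatMor.fibreDimAt f x ≤ (k : WithBot ℕ∞)})) :=
      (hKc.isRetrocompact (hEo.preimage gV.continuous)).isConstructible (hEo.preimage gV.continuous)
    have hnot : (⟨y₀, hyV'⟩ : V'.toScheme) ∉ closure
        (gV.base ⁻¹' (U.ι.base ⁻¹' {x | FlatMor.fibreDimAt f x ≤ (k : WithBot ℕ∞)})) := by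
      intro hcl
      obtain ⟨z, hz, hzy⟩ := H8ProCons.exists_specializes_of_mem_closure
        (H8ProCons.isClosed_cons_of_isConstructible hKcons) hcl
      have h1 : FlatMor.fibreDimAt f (g z.1) ≤ (k : WithBot ℕ∞) := hgV z ▸ hz
      have h2 := le_trans (hgen z.1 (hzy.map V'.ι.continuous)) ((hd z.1).symm.le.trans h1)
      rw [hn, hdn] at h2
      have h3 : k + 1 ≤ k := by exact_mod_cast h2
      omega
    refine ⟨_, Filter.inter_mem (hle.mem_nhds hy₀)
      (V'.ι.isOpenEmbedding.isOpenMap.image_mem_nhds (isClosed_closure.isOpen_compl.mem_nhds hnot)), ?_⟩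
    rintro _ ⟨hz, ⟨z, hzc, rfl⟩⟩
    refine le_antisymm ((hd _).symm.le.trans (le_trans hz hn.ge)) ?_
    obtain ⟨η, hη, hgenη, -⟩ := exists_generic_comp f g hg z.1 (hirr z.1)
    rw [hn, hdn]
    refine le_of_le_of_eq ?_ (topologicalKrullDim_comp_eq f g hg z.1 hη hgenη).symm
    by_contra hlt
    refine hzc (subset_closure ?_)
    show FlatMor.fibreDimAt f (gV z).1 ≤ (k : WithBot ℕ∞)
    rw [hgV, hd, topologicalKrullDim_comp_eq f g hg z.1 hη hgenη]
    rw [not_le, Nat.cast_lt] at hlt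
    exact_mod_cast Nat.lt_succ_iff.1 hlt

/-- Upper semicontinuity along generizations. -/
theorem dim_comp_le_of_specializes [LocallyOfFiniteType f] (hg : g ≫ f = 𝟙 Y)
    (hirr : ∀ z, IsIrreducible (comp f g z)) {η z : Y} (h : η ⤳ z) :
    topologicalKrullDim ↥(comp f g η) ≤ topologicalKrullDim ↥(comp f g z) := by
  obtain ⟨ζ, hζ, hgenζ, -⟩ := exists_generic_comp f g hg z (hirr z)
  have hn := topologicalKrullDim_comp_eq f g hg z hζ hgenζ
  rw [← fibreDimAt_eq_dim_comp f g hg η (hirr η) (mem_comp_self f g hg η), hn]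
  exact (h.map g.continuous).mem_open (FlatMorDim.isOpen_fibreDimAt_le f (trdAt f ζ))
    ((fibreDimAt_eq_dim_comp f g hg z (hirr z) (mem_comp_self f g hg z)).trans hn).le

theorem le_dim_comp_of_geomReduced_bc {S : Scheme.{u}} [IsLocallyNoetherian S] (h : S ⟶ Y)
    [LocallyOfFiniteType f] (hg : g ≫ f = 𝟙 Y)
    (hgi : ∀ (z : Y) (K : Type u) [Field K] [Algebra (IsLocalRing.ResidueField (Y.presheaf.stalk z)) K],
      IsIrreducible ((FBase.bcπ (f.fiberToSpecResidueField z) K ≫ f.fiberι z).base ⁻¹' comp f g z))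
    (y₀ : Y)
    (hopen : ∀ ξ ∈ comp f g y₀, comp f g y₀ ⊆ closure {ξ} → EGA43.IsUnivOpenAt f ξ)
    (hred : FBase.IsGeomReducedAt (f.fiberToSpecResidueField (f (g y₀))) (f.asFiber (g y₀)))
    (t₀ t : S) (ht₀ : h t₀ = y₀) (hsp : t ⤳ t₀) :
    topologicalKrullDim ↥(comp f g y₀) ≤ topologicalKrullDim ↥(comp f g (h t)) := by
  have hirr : ∀ z, IsIrreducible (comp f g z) := fun z => isIrreducible_comp_of_geom f g z (hgi z _)
  have hirr' := fun t => isIrreducible_comp_sectionBC f g hg h hgi t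
  haveI : LocallyOfFiniteType (pullback.snd f h) := MorphismProperty.pullback_snd _ _ inferInstance
  have hdim : ∀ t, topologicalKrullDim ↥(comp (pullback.snd f h) (sectionBC f g hg h) t) =
      topologicalKrullDim ↥(comp f g (h t)) := fun t =>
    trdAt_generic_sectionBC f g hg h t (hirr _) (hirr' t)
  subst ht₀
  have hst : pullback.fst f h (sectionBC f g hg h t₀) = g (h t₀) :=
    congrArg (fun φ : S ⟶ X => φ t₀) (sectionBC_fst f g hg h)
  rw [← hdim t, ← hdim t₀]
  obtain ⟨P, hP, -⟩ := Ideal.exists_minimalPrimes_le (I := (⊥ : Ideal (S.presheaf.stalk t)))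
    (J := maximalIdeal _) bot_le
  have hηt := toPt_specializes t ⟨P, hP.1.1⟩
  refine le_trans (generic_le_of_geomReduced (pullback.snd f h) (sectionBC f g hg h) (sectionBC_snd f g hg h) hirr'
    t₀ (fun ξ hξ hξc => ?_)
    (PtIntegral.geomAt_baseChange f h (Pr := fun R _ => _root_.IsReduced R)
      (fun R R' _ _ e h => isReduced_of_injective e.symm.toRingHom e.symm.injective) (sectionBC f g hg h t₀) hst hred)
    ((mem_minimalPrimes_iff t ⟨P, hP.1.1⟩).1 hP) (hηt.trans hsp))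
    (dim_comp_le_of_specializes (pullback.snd f h) (sectionBC f g hg h) (sectionBC_snd f g hg h) hirr' hηt)
  obtain ⟨η, hη, hgenη, hmaxη⟩ := exists_generic_comp _ _ (sectionBC_snd f g hg h) t₀ (hirr' t₀)
  obtain ⟨η₀, hη₀, hgen₀, -⟩ := exists_generic_comp f g hg (h t₀) (hirr _)
  have hξη : ξ = η := ((specializes_iff_mem_closure.2 (hξc hη)).antisymm (hgenη ξ hξ)).eq
  subst hξη
  have hξt : pullback.snd f h ξ = t₀ := comp_subset _ _ t₀ hη
  have h2 := (trdAt_pullback_of_maximal f h ξ fun w hw he => hmaxη w hw (he.trans hξt)).2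
  have h1 : pullback.fst f h ξ ∈ comp f g (h t₀) := ((comp_sectionBC f g hg h t₀).le hη).1
  have h3 := h2 η₀ (hgen₀ _ h1) ((comp_subset f g _ hη₀).trans (comp_subset f g _ h1).symm)
  exact isUnivOpenAt_of_isPullback
    (hopen η₀ hη₀ fun a ha => specializes_iff_mem_closure.1 (hgen₀ a ha)) (IsPullback.of_hasPullback f h) h3.symm

/-- (α) over a Noetherian local ring of the base. -/
theorem le_dim_comp_of_geomReduced [LocallyOfFiniteType f] (hg : g ≫ f = 𝟙 Y)
    (hgi : ∀ (z : Y) (K : Type u) [Field K] [Algebra (IsLocalRing.ResidueField (Y.presheaf.stalk z)) K],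
      IsIrreducible ((FBase.bcπ (f.fiberToSpecResidueField z) K ≫ f.fiberι z).base ⁻¹' comp f g z))
    (y₀ : Y) [IsNoetherianRing (Y.presheaf.stalk y₀)]
    (hopen : ∀ ξ ∈ comp f g y₀, comp f g y₀ ⊆ closure {ξ} → EGA43.IsUnivOpenAt f ξ)
    (hred : FBase.IsGeomReducedAt (f.fiberToSpecResidueField (f (g y₀))) (f.asFiber (g y₀)))
    {z : Y} (hz : z ⤳ y₀) :
    topologicalKrullDim ↥(comp f g y₀) ≤ topologicalKrullDim ↥(comp f g z) := by
  obtain ⟨t, rfl⟩ := exists_toPt hz
  haveI : IsLocallyNoetherian (Spec (Y.presheaf.stalk y₀)) := inferInstance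
  exact le_dim_comp_of_geomReduced_bc f g (Y.fromSpecStalk y₀) hg hgi y₀ hopen hred
    (closedPoint (Y.presheaf.stalk y₀)) t Y.fromSpecStalk_closedPoint
    ((PrimeSpectrum.le_iff_specializes _ _).1 (le_maximalIdeal t.isPrime.ne_top))

end Groth.Agent.EGA43.SectionComp
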