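import Groth.Agent.EGA43.DimFormula.Sub
import Groth.Agent.EGA43.DimFormula.UnivDim
import Groth.Agent.EGA43.Chevalley.SetDim
import Groth.Prelude.Def_MoreMor
import Groth.Prelude.Def_FDesc

/-!
# EGA IV 15.6.5: dimensions of irreducible section components
-/

set_option autoImplicit false
set_option backward.isDefEq.respectTransparency false
set_option linter.style.haveILetI false

universe u

open CategoryTheory CategoryTheory.Limits AlgebraicGeometry TopologicalSpace IsLocalRing

namespace Groth.Agent.EGA43.SectionComp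

open Groth.Agent Groth.Agent.EGA43.DimFormula

variable {X Y : Scheme.{u}}

/-- The component of the section in the fibre. -/
abbrev comp (f : X ⟶ Y) (g : Y ⟶ X) (z : Y) : Set X := connectedComponentIn (f.base ⁻¹' {z}) (g.base z)

variable (f : X ⟶ Y) (g : Y ⟶ X)

theorem comp_subset (z : Y) {x : X} (hx : x ∈ comp f g z) : f x = z :=
  connectedComponentIn_subset (f.base ⁻¹' {z}) (g.base z) hx

theorem apply_section (hg : g ≫ f = 𝟙 Y) (z : Y) : f (g z) = z :=
  congrArg (fun φ : Y ⟶ Y => φ z) hg

theorem mem_comp_self (hg : g ≫ f = 𝟙 Y) (z : Y) : g z ∈ comp f g z :=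
  mem_connectedComponentIn (apply_section f g hg z)

theorem mem_sectionComponents_iff (x : X) :
    x ∈ MoreMor.sectionComponents f g ↔ x ∈ comp f g (f x) := Iff.rfl

theorem mem_sectionComponents_of_mem {z : Y} {x : X} (hx : x ∈ comp f g z) :
    x ∈ MoreMor.sectionComponents f g := by
  rw [mem_sectionComponents_iff, comp_subset f g z hx]
  exact hx

/-- Components are unions of fibre points related by specialization. -/
theorem mem_comp_of_specializes {z : Y} {x w : X} (hx : x ∈ comp f g z) (hw : f w = z) (h : w ⤳ x ∨ x ⤳ w) :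
    w ∈ comp f g z := by
  have hxz := comp_subset f g z hx
  rw [comp, connectedComponentIn_eq hx]
  have hsub : ({w, x} : Set X) ⊆ f.base ⁻¹' {z} := by rintro t (rfl | rfl) <;> assumption
  rcases h with h | h
  · exact (isPreconnected_singleton.subset_closure (t := {w, x}) (Set.singleton_subset_iff.2 (Or.inl rfl))
      (Set.insert_subset_iff.2 ⟨subset_closure rfl, Set.singleton_subset_iff.2
        (specializes_iff_mem_closure.1 h)⟩)).subset_connectedComponentIn (Or.inr rfl) hsub (Or.inl rfl)
  · exact (isPreconnected_singleton.subset_closure (t := {w, x}) (Set.singleton_subset_iff.2 (Or.inr rfl))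
      (Set.insert_subset_iff.2 ⟨specializes_iff_mem_closure.1 h, Set.singleton_subset_iff.2
        (subset_closure rfl)⟩)).subset_connectedComponentIn (Or.inr rfl) hsub (Or.inl rfl)

/-- The component is closed in the fibre. -/
theorem closure_inter_comp (hg : g ≫ f = 𝟙 Y) (z : Y) :
    closure (comp f g z) ∩ f.base ⁻¹' {z} = comp f g z := by
  refine Set.Subset.antisymm (fun x hx => ?_) fun x hx => ⟨subset_closure hx, comp_subset f g z hx⟩
  have hpc : _root_.IsPreconnected (closure (comp f g z) ∩ f.base ⁻¹' {z}) :=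
    isPreconnected_connectedComponentIn.subset_closure
      (fun t ht => ⟨subset_closure ht, comp_subset f g z ht⟩) Set.inter_subset_left
  exact hpc.subset_connectedComponentIn ⟨subset_closure (mem_comp_self f g hg z), apply_section f g hg z⟩
    Set.inter_subset_right hx

theorem topologicalKrullDim_comp [LocallyOfFiniteType f] (hg : g ≫ f = 𝟙 Y) (z : Y) :
    topologicalKrullDim ↥(comp f g z) =
      ⨆ w : ↥(closure (comp f g z) ∩ f.base ⁻¹' {z}), (trdAt f w.1 : WithBot ℕ∞) := by
  conv_lhs => rw [← closure_inter_comp f g hg z]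
  exact Chevalley.topologicalKrullDim_inter_fibre f isClosed_closure.isLocallyClosed z

theorem le_topologicalKrullDim_comp [LocallyOfFiniteType f] (hg : g ≫ f = 𝟙 Y) (z : Y) {x : X} (hx : x ∈ comp f g z) :
    (trdAt f x : WithBot ℕ∞) ≤ topologicalKrullDim ↥(comp f g z) := by
  rw [topologicalKrullDim_comp f g hg z]
  exact le_iSup (fun w : ↥(closure (comp f g z) ∩ f.base ⁻¹' {z}) => (trdAt f w.1 : WithBot ℕ∞))
    ⟨x, subset_closure hx, comp_subset f g z hx⟩

/-- The generic point of an irreducible component of the section. -/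
theorem exists_generic_comp (hg : g ≫ f = 𝟙 Y) (z : Y) (hC : IsIrreducible (comp f g z)) :
    ∃ η ∈ comp f g z, (∀ x ∈ comp f g z, η ⤳ x) ∧ ∀ w, w ⤳ η → f w = z → w = η := by
  have hsub : comp f g z ⊆ Set.range (f.fiberι z) := fun x hx => (f.range_fiberι z).ge (comp_subset f g z hx)
  have hirr : IsIrreducible (f.fiberι z ⁻¹' comp f g z) := by
    refine ⟨?_, ?_⟩
    · obtain ⟨t, ht⟩ := hsub (mem_comp_self f g hg z)
      exact ⟨t, show f.fiberι z t ∈ _ from ht ▸ mem_comp_self f g hg z⟩
    · intro u v hu hv ⟨a, ha, hau⟩ ⟨b, hb, hbv⟩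
      obtain ⟨U, hU, rfl⟩ := (f.fiberι z).isEmbedding.isInducing.isOpen_iff.1 hu
      obtain ⟨V, hV, rfl⟩ := (f.fiberι z).isEmbedding.isInducing.isOpen_iff.1 hv
      obtain ⟨x, hx, hxU, hxV⟩ := hC.2 U V hU hV ⟨_, ha, hau⟩ ⟨_, hb, hbv⟩
      obtain ⟨t, rfl⟩ := hsub hx
      exact ⟨t, hx, hxU, hxV⟩
  have hcl : IsClosed (f.fiberι z ⁻¹' comp f g z) := by
    rw [← closure_inter_comp f g hg z, Set.preimage_inter]
    refine (isClosed_closure.preimage (f.fiberι z).continuous).inter ?_
    convert isClosed_univ using 1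
    exact Set.eq_univ_of_forall fun t => (f.range_fiberι z).le ⟨t, rfl⟩
  obtain ⟨η, hη⟩ := QuasiSober.sober hirr hcl
  have hgen : ∀ x ∈ comp f g z, f.fiberι z η ⤳ x := fun x hx => by
    obtain ⟨t, rfl⟩ := hsub hx
    exact (hη.specializes hx).map (f.fiberι z).continuous
  exact ⟨f.fiberι z η, hη.mem, hgen, fun w hw hwz =>
    (hw.antisymm (hgen w (mem_comp_of_specializes f g hη.mem hwz (Or.inl hw)))).eq⟩

theorem topologicalKrullDim_comp_eq [LocallyOfFiniteType f] (hg : g ≫ f = 𝟙 Y) (z : Y) {η : X}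
    (hη : η ∈ comp f g z) (hgen : ∀ x ∈ comp f g z, η ⤳ x) :
    topologicalKrullDim ↥(comp f g z) = (trdAt f η : WithBot ℕ∞) := by
  refine le_antisymm ?_ (le_topologicalKrullDim_comp f g hg z hη)
  rw [topologicalKrullDim_comp f g hg z]
  refine iSup_le fun w => ?_
  have hw : w.1 ∈ comp f g z := (closure_inter_comp f g hg z).le w.2
  exact_mod_cast Chevalley.trdegHom_le_of_specializes f (hgen _ hw)
    ((comp_subset f g z hη).trans (comp_subset f g z hw).symm)

/-- `dim X⁰_z` is the fibre dimension at any of its points. -/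
theorem fibreDimAt_eq_dim_comp [LocallyOfFiniteType f] (hg : g ≫ f = 𝟙 Y) (z : Y)
    (hC : IsIrreducible (comp f g z)) {x : X} (hx : x ∈ comp f g z) :
    FlatMor.fibreDimAt f x = topologicalKrullDim ↥(comp f g z) := by
  obtain ⟨η, hη, hgen, -⟩ := exists_generic_comp f g hg z hC
  rw [topologicalKrullDim_comp_eq f g hg z hη hgen]
  refine le_antisymm ((FlatMorDim.fibreDimAt_le_iff f x _).2 fun w hw hwx => ?_) ?_
  · have hwC := mem_comp_of_specializes f g hx (hw.trans (comp_subset f g z hx)) (Or.inl hwx)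
    exact Chevalley.trdegHom_le_of_specializes f (hgen w hwC)
      ((comp_subset f g z hη).trans (comp_subset f g z hwC).symm)
  · refine le_iInf fun ⟨V, hV⟩ => ?_
    have he : f η = f x := (comp_subset f g z hη).trans (comp_subset f g z hx).symm
    obtain ⟨η', hη'⟩ : η ∈ Set.range (f.fiberι (f x)) := (f.range_fiberι (f x)).ge he
    have hsp : η' ⤳ f.asFiber x := by
      rw [← (f.fiberι (f x)).isEmbedding.isInducing.specializes_iff, f.fiberι_asFiber, hη']
      exact hgen x hx
    haveI : LocallyOfFiniteType (f.fiberToSpecResidueField (f x)) :=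
      inferInstanceAs (LocallyOfFiniteType (pullback.snd f (Y.fromSpecResidueField (f x))))
    let V' : (f.fiber (f x)).Opens := V
    have h := DimLib.ptDim_le_topologicalKrullDim (V'.ι ≫ f.fiberToSpecResidueField (f x))
      ⟨η', hsp.mem_open V'.isOpen hV⟩
    rw [DimLib.ptDim_comp_preimmersion, show V'.ι ⟨η', hsp.mem_open V'.isOpen hV⟩ = η' from rfl,
      FibDepth.ptDim_fiber f, hη'] at h
    exact h

/-- EGA IV 15.6.5, semicontinuity. -/
theorem upperSemicontinuous_dim_comp [LocallyOfFiniteType f] (hg : g ≫ f = 𝟙 Y)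
    (hirr : ∀ z, IsIrreducible (comp f g z)) :
    UpperSemicontinuous (fun z : Y => topologicalKrullDim ↥(comp f g z)) := by
  intro y c hc
  have hd : ∀ z, topologicalKrullDim ↥(comp f g z) = FlatMor.fibreDimAt f (g z) := fun z =>
    (fibreDimAt_eq_dim_comp f g hg z (hirr z) (mem_comp_self f g hg z)).symm
  obtain ⟨η, hη, hgen, -⟩ := exists_generic_comp f g hg y (hirr y)
  have hn := topologicalKrullDim_comp_eq f g hg y hη hgen
  rw [hd] at hn
  simp only [hd] at hc ⊢
  refine Filter.eventually_of_mem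
    (((FlatMorDim.isOpen_fibreDimAt_le f (trdAt f η)).preimage g.continuous).mem_nhds
      (show FlatMor.fibreDimAt f (g y) ≤ _ from hn.le)) fun z hz => ?_
  exact lt_of_le_of_lt hz (hn ▸ hc)

theorem isIrreducible_comp_of_geom (z : Y)
    (h : IsIrreducible ((FBase.bcπ (f.fiberToSpecResidueField z) (IsLocalRing.ResidueField (Y.presheaf.stalk z)) ≫
      f.fiberι z).base ⁻¹' comp f g z)) : IsIrreducible (comp f g z) := by
  have hsurj : comp f g z ⊆ Set.range (FBase.bcπ (f.fiberToSpecResidueField z)
      (IsLocalRing.ResidueField (Y.presheaf.stalk z)) ≫ f.fiberι z) := by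
    intro x hx
    obtain ⟨t, rfl⟩ : x ∈ Set.range (f.fiberι z) := (f.range_fiberι z).ge (comp_subset f g z hx)
    obtain ⟨w, hw, -⟩ := Scheme.Pullback.exists_preimage_pullback (f := f.fiberToSpecResidueField z)
      (g := Spec.map (CommRingCat.ofHom (algebraMap (IsLocalRing.ResidueField (Y.presheaf.stalk z))
        (IsLocalRing.ResidueField (Y.presheaf.stalk z))))) t (f.fiberToSpecResidueField z t)
      (Subsingleton.elim (α := PrimeSpectrum (IsLocalRing.ResidueField (Y.presheaf.stalk z))) _ _)
    exact ⟨w, congrArg (f.fiberι z) hw⟩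
  have h2 := h.image _ (FBase.bcπ (f.fiberToSpecResidueField z)
      (IsLocalRing.ResidueField (Y.presheaf.stalk z)) ≫ f.fiberι z).continuous.continuousOn
  rwa [Set.image_preimage_eq_of_subset hsurj] at h2

theorem trdAt_lt [LocallyOfFiniteType f] {a b : X} (h : a ⤳ b) (he : f a = f b) (hne : a ≠ b) :
    trdAt f b < trdAt f a := by
  obtain ⟨a', rfl⟩ : a ∈ Set.range (f.fiberι (f b)) := (f.range_fiberι (f b)).ge he
  haveI : LocallyOfFiniteType (f.fiberToSpecResidueField (f b)) :=
    inferInstanceAs (LocallyOfFiniteType (pullback.snd f (Y.fromSpecResidueField (f b))))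
  have h' : a' ⤳ f.asFiber b := by
    rw [← (f.fiberι (f b)).isEmbedding.isInducing.specializes_iff, f.fiberι_asFiber]
    exact h
  have := DimLib.ptDim_lt_of_specializes (k := Y.residueField (f b)) (f.fiberToSpecResidueField (f b)) h'
    (fun e => hne (by rw [e, f.fiberι_asFiber]))
  rw [FibDepth.ptDim_fiber f, FibDepth.ptDim_fiber f, f.fiberι_asFiber] at this
  exact this

/-- EGA IV 15.6.5 (i), (ii). -/
theorem dim_comp_le [IsLocallyNoetherian Y] [LocallyOfFiniteType f] (hg : g ≫ f = 𝟙 Y) {y y' : Y}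
    (hy : y' ⤳ y) {ξ : X} (hξ : ξ ∈ comp f g y') (hξg : ξ ⤳ g y')
    (hdim : topologicalKrullDim ↥(comp f g y') = (trdAt f ξ : WithBot ℕ∞)) :
    topologicalKrullDim ↥(comp f g y') ≤ topologicalKrullDim ↥(comp f g y) ∧
      (IsIrreducible (comp f g y) → topologicalKrullDim ↥(comp f g y) = topologicalKrullDim ↥(comp f g y') →
        comp f g y ⊆ closure (comp f g y')) := by
  obtain ⟨w, hξw, hwy, hfw, hd⟩ := exists_between_trdAt f (hξg.trans (hy.map g.continuous))
  have hwC : w ∈ comp f g y :=
    mem_comp_of_specializes f g (mem_comp_self f g hg y) (hfw.trans (apply_section f g hg y)) (Or.inl hwy)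
  rw [hdim]
  refine ⟨le_trans (by exact_mod_cast hd) (le_topologicalKrullDim_comp f g hg y hwC), fun hC he => ?_⟩
  obtain ⟨η, hη, hgen, -⟩ := exists_generic_comp f g hg y hC
  rw [topologicalKrullDim_comp_eq f g hg y hη hgen] at he
  have he' : trdAt f η = trdAt f ξ := by exact_mod_cast he
  have hwη : η = w := by
    by_contra hne
    have := trdAt_lt f (hgen w hwC) ((comp_subset f g y hη).trans (comp_subset f g y hwC).symm) hne
    omega
  intro x hx
  refine closure_mono (Set.singleton_subset_iff.2 hξ) (specializes_iff_mem_closure.1 ?_)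
  exact hξw.trans (hwη ▸ hgen x hx)

theorem dim_comp_le_of_irreducible [IsLocallyNoetherian Y] [LocallyOfFiniteType f] (hg : g ≫ f = 𝟙 Y) {y y' : Y}
    (hy : y' ⤳ y) (h' : IsIrreducible (comp f g y')) :
    topologicalKrullDim ↥(comp f g y') ≤ topologicalKrullDim ↥(comp f g y) ∧
      (IsIrreducible (comp f g y) → topologicalKrullDim ↥(comp f g y) = topologicalKrullDim ↥(comp f g y') →
        comp f g y ⊆ closure (comp f g y')) := by
  obtain ⟨ξ, hξ, hgen, -⟩ := exists_generic_comp f g hg y' h'
  exact dim_comp_le f g hg hy hξ (hgen _ (mem_comp_self f g hg y')) (topologicalKrullDim_comp_eq f g hg y' hξ hgen)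

end Groth.Agent.EGA43.SectionComp
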