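import Groth.Agent.EGA43.SectionComp.Dim
import Groth.Agent.FlatMorSection.Constructible

/-!
# Constructibility of the locus where the section component is geometrically irreducible
-/

set_option autoImplicit false
set_option backward.isDefEq.respectTransparency false
set_option linter.style.haveILetI false

universe u

open CategoryTheory CategoryTheory.Limits AlgebraicGeometry TopologicalSpace

namespace Groth.Agent.EGA43.SectionComp

open Groth.Agent Groth.Agent.FlatMorGeomIrr

variable {X Y : Scheme.{u}} (f : X ⟶ Y) (g : Y ⟶ X)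

/-- Geometric irreducibility of the component of the section over `z`. -/
def IsGeomIrrComp (z : Y) : Prop :=
  ∀ (K : Type u) [Field K] [Algebra (IsLocalRing.ResidueField (Y.presheaf.stalk z)) K],
    IsIrreducible ((FBase.bcπ (f.fiberToSpecResidueField z) K ≫ f.fiberι z).base ⁻¹' comp f g z)

theorem isGeomIrrComp_iff_of_closedImmersion {W : Scheme.{u}} (c₀ : W ⟶ X) [IsClosedImmersion c₀] (z : Y)
    (hCz : Set.range c₀ ∩ f.base ⁻¹' {z} = comp f g z) :
    IsGeomIrrComp f g z ↔ GeometricallyIrreducible ((c₀ ≫ f).fiberToSpecResidueField z) := by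
  rw [geometricallyIrreducible_iff, geometrically_iff_of_commRing_of_isClosedUnderIsomorphisms]
  refine forall_congr' fun K => forall_congr' fun _ => forall_congr' fun _ => ?_
  let κ := Spec.map (CommRingCat.ofHom (algebraMap (IsLocalRing.ResidueField (Y.presheaf.stalk z)) K))
  let j : (c₀ ≫ f).fiber z ⟶ f.fiber z :=
    pullback.lift (pullback.fst _ _ ≫ c₀) (pullback.snd _ _) (by rw [Category.assoc, pullback.condition])
  have hj : IsPullback (pullback.fst (c₀ ≫ f) (Y.fromSpecResidueField z)) j (c₀)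
      (pullback.fst f (Y.fromSpecResidueField z)) := by
    refine IsPullback.of_bot ?_ (by simp [j]) (IsPullback.of_hasPullback f (Y.fromSpecResidueField z))
    convert IsPullback.of_hasPullback (c₀ ≫ f) (Y.fromSpecResidueField z) using 1
    simp [j]
  let jK : pullback ((c₀ ≫ f).fiberToSpecResidueField z) κ ⟶ pullback (f.fiberToSpecResidueField z) κ :=
    pullback.lift (pullback.fst _ _ ≫ j) (pullback.snd _ _) (by
      rw [Category.assoc, show j ≫ f.fiberToSpecResidueField z = (c₀ ≫ f).fiberToSpecResidueField z from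
        pullback.lift_snd _ _ _, pullback.condition])
  have hjK : IsPullback (pullback.fst ((c₀ ≫ f).fiberToSpecResidueField z) κ) jK j
      (pullback.fst (f.fiberToSpecResidueField z) κ) := by
    refine IsPullback.of_bot ?_ (by simp [jK]) (IsPullback.of_hasPullback (f.fiberToSpecResidueField z) κ)
    rw [show jK ≫ pullback.snd (f.fiberToSpecResidueField z) κ =
        pullback.snd ((c₀ ≫ f).fiberToSpecResidueField z) κ from pullback.lift_snd _ _ _,
      show j ≫ f.fiberToSpecResidueField z = (c₀ ≫ f).fiberToSpecResidueField z from pullback.lift_snd _ _ _]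
    exact IsPullback.of_hasPullback _ _
  haveI : IsClosedImmersion j := MorphismProperty.of_isPullback hj inferInstance
  haveI : IsClosedImmersion jK := MorphismProperty.of_isPullback hjK inferInstance
  have hj' : ∀ w, f.fiberι z (j w) = c₀ ((c₀ ≫ f).fiberι z w) := fun w =>
    congrArg (fun φ : (c₀ ≫ f).fiber z ⟶ X => φ w) (pullback.lift_fst _ _ _)
  have hrange : Set.range jK = (FBase.bcπ (f.fiberToSpecResidueField z) K ≫ f.fiberι z).base ⁻¹' comp f g z := by
    ext b
    constructor
    · rintro ⟨w, rfl⟩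
      refine hCz.le ⟨?_, (f.range_fiberι z).le ⟨_, rfl⟩⟩
      show f.fiberι z (pullback.fst (f.fiberToSpecResidueField z) κ (jK w)) ∈ Set.range c₀
      rw [show pullback.fst (f.fiberToSpecResidueField z) κ (jK w) =
        j (pullback.fst ((c₀ ≫ f).fiberToSpecResidueField z) κ w) from
        congrArg (fun φ : pullback ((c₀ ≫ f).fiberToSpecResidueField z) κ ⟶ f.fiber z => φ w)
          (pullback.lift_fst _ _ _), hj']
      exact ⟨_, rfl⟩
    · intro hb
      obtain ⟨c, hc⟩ := (hCz.ge hb).1
      have hcz : (c₀ ≫ f) c = z := by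
        rw [Scheme.Hom.comp_apply, hc]
        exact (hCz.ge hb).2
      obtain ⟨w, rfl⟩ := ((c₀ ≫ f).range_fiberι z).ge hcz
      have hw : j w = pullback.fst (f.fiberToSpecResidueField z) κ b :=
        (f.fiberι z).isEmbedding.injective ((hj' w).trans hc)
      obtain ⟨v, -, hv⟩ := Scheme.Pullback.exists_preimage_pullback (f := j)
        (g := pullback.fst (f.fiberToSpecResidueField z) κ) w b hw
      refine ⟨hjK.isoPullback.inv v, ?_⟩
      rw [← Scheme.Hom.comp_apply, hjK.isoPullback_inv_snd]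
      exact hv
  change IsIrreducible _ ↔ IrreducibleSpace ↥(pullback ((c₀ ≫ f).fiberToSpecResidueField z) κ)
  rw [← hrange, irreducibleSpace_def, Set.top_eq_univ, ← Set.image_univ]
  constructor
  · intro h
    refine ⟨h.1.of_image, fun u v hu hv => ?_⟩
    rintro ⟨a, -, hau⟩ ⟨b, -, hbv⟩
    obtain ⟨U, hU, rfl⟩ := jK.isEmbedding.isInducing.isOpen_iff.1 hu
    obtain ⟨V, hV, rfl⟩ := jK.isEmbedding.isInducing.isOpen_iff.1 hv
    obtain ⟨_, ⟨c, -, rfl⟩, hcU, hcV⟩ :=
      h.2 U V hU hV ⟨_, ⟨a, trivial, rfl⟩, hau⟩ ⟨_, ⟨b, trivial, rfl⟩, hbv⟩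
    exact ⟨c, trivial, hcU, hcV⟩
  · exact fun h => h.image _ jK.continuous.continuousOn

theorem isGeomIrrComp_iff_of_closed {C : Set X} (hC : IsClosed C) (z : Y)
    (hCz : C ∩ f.base ⁻¹' {z} = comp f g z) :
    IsGeomIrrComp f g z ↔ GeometricallyIrreducible ((redι hC ≫ f).fiberToSpecResidueField z) :=
  isGeomIrrComp_iff_of_closedImmersion f g (redι hC) z (by rw [range_redι]; exact hCz)

theorem isGeomIrrComp_baseChange_iff {X' Y' : Scheme.{u}} (f' : X' ⟶ Y') (g' : Y' ⟶ X') (a : X' ⟶ X) (h : Y' ⟶ Y)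
    (sq : IsPullback a f' f h) (hg : g ≫ f = 𝟙 Y) (hg' : g' ≫ f' = 𝟙 Y') (hga : g' ≫ a = h ≫ g) (t : Y') :
    IsGeomIrrComp f' g' t ↔ IsGeomIrrComp f g (h t) := by
  let i := redι (isClosed_closure (s := comp f g (h t)))
  let q := i ≫ f
  let i' : pullback q h ⟶ X' := sq.lift (pullback.fst q h ≫ i) (pullback.snd q h)
    (by rw [Category.assoc, pullback.condition])
  have hi' : IsPullback (pullback.fst q h) i' i a := by
    refine IsPullback.of_bot ?_ (sq.lift_fst _ _ _).symm sq
    rw [sq.lift_snd]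
    exact IsPullback.of_hasPullback q h
  haveI : IsClosedImmersion i' := MorphismProperty.of_isPullback hi' inferInstance
  have hi'a : ∀ w, a (i' w) = i (pullback.fst q h w) := fun w =>
    congrArg (fun φ : pullback q h ⟶ X => φ w) (sq.lift_fst _ _ _)
  have hSC := FlatMorSection.sectionComponents_baseChange f g hg f' a h sq g' hg' hga
  have hfa : ∀ x, f (a x) = h (f' x) := fun x => congrArg (fun φ : X' ⟶ Y => φ x) sq.w
  have hrange : Set.range i' ∩ f'.base ⁻¹' {t} = comp f' g' t := by
    ext x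
    constructor
    · rintro ⟨⟨w, rfl⟩, hx⟩
      have hax : f (a (i' w)) = h t := (hfa _).trans (congrArg h hx)
      have h1 : a (i' w) ∈ comp f g (h t) :=
        (closure_inter_comp f g hg (h t)).le ⟨(range_redι isClosed_closure).le ⟨_, (hi'a w).symm⟩, hax⟩
      have h2 : i' w ∈ MoreMor.sectionComponents f' g' := by
        rw [hSC]; exact mem_sectionComponents_of_mem f g h1
      rw [mem_sectionComponents_iff, show f' (i' w) = t from hx] at h2
      exact h2
    · intro hx
      refine ⟨?_, comp_subset f' g' t hx⟩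
      have h2 := mem_sectionComponents_of_mem f' g' hx
      rw [hSC, Set.mem_preimage, mem_sectionComponents_iff,
        (hfa x).trans (congrArg h (comp_subset f' g' t hx))] at h2
      obtain ⟨c, hc⟩ := (range_redι isClosed_closure).ge (subset_closure h2)
      obtain ⟨v, -, hv⟩ := Scheme.Pullback.exists_preimage_pullback (f := i) (g := a) c x hc
      refine ⟨hi'.isoPullback.inv v, ?_⟩
      rw [← Scheme.Hom.comp_apply, hi'.isoPullback_inv_snd]
      exact hv
  rw [isGeomIrrComp_iff_of_closedImmersion f' g' i' t hrange,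
    isGeomIrrComp_iff_of_closedImmersion f g i (h t)
      (by rw [range_redι]; exact closure_inter_comp f g hg (h t)),
    geometricallyIrreducible_iff_count, geometricallyIrreducible_iff_count,
    show i' ≫ f' = pullback.snd q h from sq.lift_snd _ _ _,
    (counts_baseChange q (pullback.snd q h) (pullback.fst q h) h (IsPullback.of_hasPullback q h) t).1]

theorem isConstructible_isGeomIrrComp [IsLocallyNoetherian Y] [CompactSpace Y] [LocallyOfFiniteType f]
    [QuasiCompact f] (hg : g ≫ f = 𝟙 Y) :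
    Topology.IsConstructible {z : Y | IsGeomIrrComp f g z} := by
  haveI : IsNoetherian Y := {}
  refine (H8Top.isConstructible_iff_forall_irreducible_closed _).2 fun Z hZ hZi => ?_
  let i := redι hZ
  have hiZ : Set.range i = Z := range_redι hZ
  haveI : IrreducibleSpace ↥((Scheme.IdealSheafData.vanishingIdeal (X := Y) ⟨Z, hZ⟩).subscheme) := by
    refine (irreducibleSpace_def _).2 ⟨?_, fun u v hu hv => ?_⟩
    · obtain ⟨y, hy⟩ := hZi.1
      obtain ⟨w, -⟩ := hiZ.ge hy
      exact ⟨w, trivial⟩
    · rintro ⟨a, -, hau⟩ ⟨b, -, hbv⟩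
      obtain ⟨U, hU, rfl⟩ := i.isEmbedding.isInducing.isOpen_iff.1 hu
      obtain ⟨V, hV, rfl⟩ := i.isEmbedding.isInducing.isOpen_iff.1 hv
      obtain ⟨y, hy, hyU, hyV⟩ := hZi.2 U V hU hV ⟨_, hiZ.le ⟨a, rfl⟩, hau⟩ ⟨_, hiZ.le ⟨b, rfl⟩, hbv⟩
      obtain ⟨w, rfl⟩ := hiZ.ge hy
      exact ⟨w, trivial, hyU, hyV⟩
  let f' := pullback.snd f i
  let g' : _ ⟶ pullback f i :=
    pullback.lift (i ≫ g) (𝟙 _) (by rw [Category.assoc, hg, Category.comp_id, Category.id_comp])
  haveI : LocallyOfFiniteType f' := MorphismProperty.pullback_snd _ _ inferInstance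
  haveI : QuasiCompact f' := MorphismProperty.pullback_snd _ _ inferInstance
  haveI : IsClosedImmersion (pullback.fst f i) := MorphismProperty.pullback_fst _ _ inferInstance
  obtain ⟨V, C, D, hV, hC, -, hCD⟩ := FlatMorSection.exists_closed_split f' g' (pullback.lift_snd _ _ _)
  let C' : Set X := pullback.fst f i '' C
  have hC' : IsClosed C' := (pullback.fst f i).isClosedEmbedding.isClosedMap _ hC
  have hSC := FlatMorSection.sectionComponents_baseChange f g hg f' (pullback.fst f i) i
    (IsPullback.of_hasPullback f i) g' (pullback.lift_snd _ _ _) (pullback.lift_fst _ _ _)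
  have hcomp : ∀ w ∈ V, C' ∩ f.base ⁻¹' {i w} = comp f g (i w) := by
    intro w hw
    ext x
    constructor
    · rintro ⟨⟨c, hc, rfl⟩, hx⟩
      have hfc : f' c = w := i.isEmbedding.injective
        ((congrArg (fun φ : pullback f i ⟶ Y => φ c) pullback.condition).symm.trans hx)
      have h1 := ((hCD c (show f' c ∈ V from hfc.symm ▸ hw)).1).2 hc
      rw [hSC, Set.mem_preimage, mem_sectionComponents_iff, show f (pullback.fst f i c) = i w from hx] at h1
      exact h1
    · intro hx
      obtain ⟨c, rfl, hcw⟩ := Scheme.Pullback.exists_preimage_pullback (f := f) (g := i) x w (comp_subset f g _ hx)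
      refine ⟨⟨c, ((hCD c (show f' c ∈ V from (show f' c = w from hcw).symm ▸ hw)).1).1 ?_, rfl⟩,
        comp_subset f g _ hx⟩
      rw [hSC]
      exact mem_sectionComponents_of_mem f g hx
  let q := redι hC' ≫ f
  haveI : LocallyOfFiniteType q := inferInstance
  haveI : QuasiCompact q := inferInstance
  haveI : LocallyOfFiniteType (pullback.snd q i) := MorphismProperty.pullback_snd _ _ inferInstance
  haveI : QuasiCompact (pullback.snd q i) := MorphismProperty.pullback_snd _ _ inferInstance
  obtain ⟨V', hV', hcount⟩ := exists_opens_forall_counts_eq (pullback.snd q i)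
  obtain ⟨O, hO, hOV⟩ := i.isEmbedding.isInducing.isOpen_iff.1 (V ⊓ V').isOpen
  have hgm : ∀ {U : Set ↥((Scheme.IdealSheafData.vanishingIdeal (X := Y) ⟨Z, hZ⟩).subscheme)}, IsOpen U →
      U.Nonempty → genericPoint _ ∈ U := fun hU ⟨w, hw⟩ => (genericPoint_specializes w).mem_open hU hw
  have hηO : i (genericPoint _) ∈ O := hOV.ge ⟨hgm V.isOpen hV, hgm V'.isOpen hV'⟩
  have key : ∀ w, i w ∈ O →
      (IsGeomIrrComp f g (i w) ↔ MoreMor.nGeomIrredComp (pullback.snd q i) (genericPoint _) = 1) := by
    intro w hw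
    have hw' := hOV.le hw
    rw [isGeomIrrComp_iff_of_closed f g hC' (i w) (hcomp w hw'.1), geometricallyIrreducible_iff_count,
      ← (counts_baseChange q (pullback.snd q i) (pullback.fst q i) i (IsPullback.of_hasPullback q i) w).1,
      (hcount w hw'.2).1]
  by_cases hη : MoreMor.nGeomIrredComp (pullback.snd q i) (genericPoint _) = 1
  · refine Or.inr ⟨O, hO, ⟨_, hηO, hiZ.le ⟨_, rfl⟩⟩, ?_⟩
    rintro y ⟨hyO, hyZ⟩
    obtain ⟨w, rfl⟩ := hiZ.ge hyZ
    exact (key w hyO).2 hη
  · refine Or.inl ?_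
    rw [IsNowhereDense, Set.eq_empty_iff_forall_notMem]
    intro y hy
    have hsub : closure (Subtype.val ⁻¹' {z : Y | IsGeomIrrComp f g z} : Set Z) ⊆
        (Subtype.val ⁻¹' O)ᶜ := by
      refine closure_minimal (fun v hv hvO => hη ?_) (hO.preimage continuous_subtype_val).isClosed_compl
      obtain ⟨w, hw⟩ := hiZ.ge v.2
      exact (key w (hw.symm ▸ hvO)).1 (hw.symm ▸ hv)
    obtain ⟨U', hU'sub, hU', hyU'⟩ := mem_interior.1 hy
    obtain ⟨U'', hU'', rfl⟩ := isOpen_induced_iff.1 hU'
    obtain ⟨z, hz, hzU, hzO⟩ := hZi.2 U'' O hU'' hO ⟨y, y.2, hyU'⟩ ⟨_, hiZ.le ⟨_, rfl⟩, hηO⟩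
    exact hsub (hU'sub (show (⟨z, hz⟩ : Z) ∈ Subtype.val ⁻¹' U'' from hzU)) hzO

end Groth.Agent.EGA43.SectionComp
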