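import Groth.Agent.EGA43.SectionComp.SectionProper

/-!
# Semicontinuity of `dim X⁰_z` at points where `X⁰` is proper (EGA IV 15.7.11)
-/

set_option autoImplicit false
set_option backward.isDefEq.respectTransparency false
set_option linter.style.haveILetI false

universe u

open CategoryTheory CategoryTheory.Limits AlgebraicGeometry TopologicalSpace Opposite

namespace Groth.Agent.EGA43.SectionComp

open Groth.Agent Groth.Agent.EGA43.DimFormula

variable {X Y : Scheme.{u}}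

/-- `dim X⁰` does not grow under generization when the specializations stay inside `X⁰`. -/
theorem dim_comp_le_of_lift (f : X ⟶ Y) [LocallyOfFiniteType f] (g : Y ⟶ X) (hg : g ≫ f = 𝟙 Y) {y y' : Y}
    (h : ∀ x' ∈ comp f g y', ∃ x ∈ comp f g y, x' ⤳ x) :
    topologicalKrullDim ↥(comp f g y') ≤ topologicalKrullDim ↥(comp f g y) := by
  rw [topologicalKrullDim_comp f g hg y']
  refine iSup_le fun w => ?_
  obtain ⟨x, hx, hwx⟩ := h w.1 ((closure_inter_comp f g hg y').le w.2)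
  by_cases hn : trdAt f w.1 = 0
  · rw [hn]
    exact le_trans (by exact_mod_cast Nat.zero_le _) (le_topologicalKrullDim_comp f g hg y hx)
  obtain ⟨m, hm⟩ : ∃ m, trdAt f w.1 = m + 1 := ⟨trdAt f w.1 - 1, by omega⟩
  have h2 : ¬ FlatMor.fibreDimAt f x ≤ (m : WithBot ℕ∞) := fun hle => by
    have h3 := hwx.mem_open (FlatMorDim.isOpen_fibreDimAt_le f m) hle
    have h4 : trdAt f w.1 ≤ m := (FlatMorDim.fibreDimAt_le_iff f w.1 m).1 h3 w.1 rfl specializes_rfl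
    omega
  rw [FlatMorDim.fibreDimAt_le_iff] at h2
  push Not at h2
  obtain ⟨z, hz, hzx, hlt⟩ := h2
  have hzC := mem_comp_of_specializes f g hx (hz.trans (comp_subset f g y hx)) (Or.inl hzx)
  refine le_trans ?_ (le_topologicalKrullDim_comp f g hg y hzC)
  have h5 : trdAt f w.1 ≤ trdAt f z := by
    show trdAt f w.1 ≤ DimLib.trdegHom (f.residueFieldMap z).hom
    omega
  exact_mod_cast h5

theorem exists_specializes_comp (f : X ⟶ Y) (g : Y ⟶ X) {y y' : Y} (hy' : y' ⤳ y) (U : Y.Opens) (hyU : y ∈ U)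
    (hC : IsClosed ((f ⁻¹ᵁ U).ι.base ⁻¹' MoreMor.sectionComponents f g))
    (hprop : IsProper ((Scheme.IdealSheafData.vanishingIdeal
        (⟨(f ⁻¹ᵁ U).ι.base ⁻¹' MoreMor.sectionComponents f g, hC⟩ : Closeds ↥(f ⁻¹ᵁ U).toScheme)).subschemeι ≫ (f ∣_ U))) :
    ∀ x' ∈ comp f g y', ∃ x ∈ comp f g y, x' ⤳ x := by
  intro x' hx'
  have hfx' : f x' = y' := comp_subset f g y' hx'
  have hyU' : y' ∈ U := hy'.mem_open U.isOpen hyU
  let i := (Scheme.IdealSheafData.vanishingIdeal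
        (⟨(f ⁻¹ᵁ U).ι.base ⁻¹' MoreMor.sectionComponents f g, hC⟩ : Closeds ↥(f ⁻¹ᵁ U).toScheme)).subschemeι
  have hi : Set.range i = (f ⁻¹ᵁ U).ι.base ⁻¹' MoreMor.sectionComponents f g := by
    rw [Scheme.IdealSheafData.range_subschemeι]; rfl
  obtain ⟨w, hw⟩ : x' ∈ Set.range (f ⁻¹ᵁ U).ι := (f ⁻¹ᵁ U).range_ι.ge (show f x' ∈ U from hfx' ▸ hyU')
  obtain ⟨d, hd⟩ := hi.ge (show (f ⁻¹ᵁ U).ι w ∈ MoreMor.sectionComponents f g from
    hw ▸ mem_sectionComponents_of_mem f g hx')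
  obtain ⟨y₁, hy₁⟩ : y ∈ Set.range U.ι := U.range_ι.ge hyU
  haveI := hprop
  have hcl : SpecializingMap (i ≫ f ∣_ U).base := (Scheme.Hom.isClosedMap _).specializingMap
  have hUι : ∀ d', U.ι ((i ≫ f ∣_ U) d') = f ((f ⁻¹ᵁ U).ι (i d')) := fun d' =>
    congrArg (fun φ : (f ⁻¹ᵁ U).toScheme ⟶ Y => φ (i d')) (morphismRestrict_ι f U)
  have hsp : (i ≫ f ∣_ U) d ⤳ y₁ := by
    rw [← U.ι.isEmbedding.isInducing.specializes_iff, hUι, hd, hw, hfx', hy₁]
    exact hy'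
  obtain ⟨e, hde, he⟩ := hcl hsp
  refine ⟨(f ⁻¹ᵁ U).ι (i e), ?_, ?_⟩
  · have h1 : f ((f ⁻¹ᵁ U).ι (i e)) = y := by rw [← hUι, ← hy₁]; exact congrArg U.ι he
    have h2 : (f ⁻¹ᵁ U).ι (i e) ∈ MoreMor.sectionComponents f g := hi.le ⟨e, rfl⟩
    rwa [mem_sectionComponents_iff, h1] at h2
  · rw [← hw, ← hd]
    exact (hde.map i.continuous).map (f ⁻¹ᵁ U).ι.continuous

end Groth.Agent.EGA43.SectionComp
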