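import Groth.Agent.EGA43.SectionComp.FPModel
import Groth.Agent.EGA43.SectionComp.Dim
import Groth.Agent.EGA43.ProperDvr.Submersive
import Groth.Agent.Et18.Descent
import Groth.Agent.FlatMorSection.Constructible

/-!
# Properness of the union of the components along a section (EGA IV 15.7.11)
-/

set_option autoImplicit false
set_option backward.isDefEq.respectTransparency false
set_option linter.style.haveILetI false

universe u

open CategoryTheory CategoryTheory.Limits AlgebraicGeometry TopologicalSpace Opposite IsLocalRing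

namespace Groth.Agent.EGA43.SectionComp

open Groth.Agent

variable {X Y : Scheme.{u}}

theorem fiberι_preimage_sectionComponents (f : X ⟶ Y) (g : Y ⟶ X) (y : Y) :
    (f.fiberι y).base ⁻¹' MoreMor.sectionComponents f g = (f.fiberι y).base ⁻¹' comp f g y := by
  ext w
  have hw : f (f.fiberι y w) = y := (f.range_fiberι y).le ⟨w, rfl⟩
  show f.fiberι y w ∈ MoreMor.sectionComponents f g ↔ _
  rw [mem_sectionComponents_iff, hw]
  exact Iff.rfl

/-- A closed immersion proper over the base makes the reduced subscheme on its range proper. -/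
theorem isProper_reduced_of_closedImmersion {W T D : Scheme.{u}} (φ : W ⟶ T) (i : D ⟶ W) [IsClosedImmersion i]
    (S : Closeds W) (hS : Set.range i = (S : Set W)) (h : IsProper (i ≫ φ)) :
    IsProper ((Scheme.IdealSheafData.vanishingIdeal S).subschemeι ≫ φ) := by
  let r := (Scheme.IdealSheafData.vanishingIdeal S).subschemeι
  have hle : i.ker ≤ r.ker := by
    rw [Scheme.IdealSheafData.ker_subschemeι, ← Scheme.IdealSheafData.le_support_iff_le_vanishingIdeal,
      ]
    intro w hw
    rw [← SetLike.mem_coe, Scheme.Hom.support_ker]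
    exact subset_closure (hS ▸ hw)
  let l := IsClosedImmersion.lift i r hle
  have hl : l ≫ i = r := IsClosedImmersion.lift_fac _ _ _
  haveI : IsClosedImmersion (l ≫ i) := hl ▸ inferInstance
  haveI : IsClosedImmersion l := IsClosedImmersion.of_comp l i
  haveI := h
  show IsProper (r ≫ φ)
  rw [← hl, Category.assoc]
  infer_instance

theorem fpqc_specMap {R R' : CommRingCat.{u}} [IsLocalRing R'] (φ : R ⟶ R') (hR : IsField R) :
    Et18.FPQC.{u} (Spec.map φ) := by
  refine ⟨⟨⟨fun p => ⟨closedPoint R', ?_⟩⟩, ?_⟩, inferInstance⟩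
  · letI := hR.toField
    exact Subsingleton.elim (α := PrimeSpectrum R) _ _
  · show Flat (Spec.map φ)
    rw [HasRingHomProperty.Spec_iff (P := @Flat)]
    letI := hR.toField
    letI := φ.hom.toAlgebra
    exact RingHom.flat_algebraMap_iff.2 inferInstance

/-- Properness of the component in a fibre does not depend on the base change. -/
theorem isProper_comp_baseChange_iff {X' Y' : Scheme.{u}} {f : X ⟶ Y} {s : Y ⟶ X} (hs : s ≫ f = 𝟙 Y)
    {f' : X' ⟶ Y'} {s' : Y' ⟶ X'} (hs' : s' ≫ f' = 𝟙 Y') {a : X' ⟶ X} {h : Y' ⟶ Y}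
    (sq : IsPullback a f' f h) (hsa : s' ≫ a = h ≫ s) (p : Y') (V : (f.fiber (h p)).Opens)
    (hV : (V : Set (f.fiber (h p))) = (f.fiberι (h p)).base ⁻¹' MoreMor.sectionComponents f s) :
    ∃ V' : (f'.fiber p).Opens, (V' : Set (f'.fiber p)) = (f'.fiberι p).base ⁻¹' MoreMor.sectionComponents f' s' ∧
      (IsProper (V'.ι ≫ f'.fiberToSpecResidueField p) ↔ IsProper (V.ι ≫ f.fiberToSpecResidueField (h p))) := by
  let m : f'.fiber p ⟶ f.fiber (h p) :=
    pullback.map _ _ _ _ a (Spec.map (h.residueFieldMap p)) h sq.w.symm (by simp)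
  have sqm : IsPullback m (f'.fiberToSpecResidueField p) (f.fiberToSpecResidueField (h p))
      (Spec.map (h.residueFieldMap p)) := isPullback_fiberToSpecResidueField_of_isPullback sq p
  have hm : m ≫ f.fiberι (h p) = f'.fiberι p ≫ a := pullback.lift_fst _ _ _
  refine ⟨m ⁻¹ᵁ V, ?_, ?_⟩
  · show m.base ⁻¹' (V : Set (f.fiber (h p))) = _
    rw [hV, FlatMorSection.sectionComponents_baseChange f s hs f' a h sq s' hs' hsa]
    ext w
    show f.fiberι (h p) (m w) ∈ MoreMor.sectionComponents f s ↔ a (f'.fiberι p w) ∈ MoreMor.sectionComponents f s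
    rw [show f.fiberι (h p) (m w) = a (f'.fiberι p w) from congrArg (fun φ : f'.fiber p ⟶ X => φ w) hm]
  have sqV : IsPullback (m ∣_ V) ((m ⁻¹ᵁ V).ι ≫ f'.fiberToSpecResidueField p) (V.ι ≫ f.fiberToSpecResidueField (h p))
      (Spec.map (h.residueFieldMap p)) := (isPullback_morphismRestrict m V).paste_vert sqm
  refine ⟨fun hp => ?_, fun hp => MorphismProperty.of_isPullback sqV hp⟩
  haveI := Et18.descends_isProper.{u}
  exact MorphismProperty.of_isPullback_of_descendsAlong (P := @IsProper) (Q := Et18.FPQC.{u}) sqV.flip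
    (fpqc_specMap _ (Field.toIsField (Y.residueField (h p)))) hp

/-- A component with a rational point is geometrically connected. -/
theorem isPreconnected_bcπ_preimage (f : X ⟶ Y) (s : Y ⟶ X) (hs : s ≫ f = 𝟙 Y) (z : Y)
    (K : Type u) [Field K] [Algebra (IsLocalRing.ResidueField (Y.presheaf.stalk z)) K] :
    _root_.IsPreconnected ((FBase.bcπ (f.fiberToSpecResidueField z) K ≫ f.fiberι z).base ⁻¹'
      MoreMor.sectionComponents f s) := by
  let e := Spec.map (CommRingCat.ofHom (algebraMap (IsLocalRing.ResidueField (Y.presheaf.stalk z)) K))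
  let π := pullback.fst (f.fiberToSpecResidueField z) e ≫ f.fiberι z
  let q := pullback.snd (f.fiberToSpecResidueField z) e
  let h : Spec (CommRingCat.of K) ⟶ Y := e ≫ Y.fromSpecResidueField z
  have sq : IsPullback π q f h :=
    (IsPullback.of_hasPullback (f.fiberToSpecResidueField z) e).paste_horiz
      (IsPullback.of_hasPullback f (Y.fromSpecResidueField z))
  let s' := sq.lift (h ≫ s) (𝟙 _) (by rw [Category.assoc, hs, Category.comp_id, Category.id_comp])
  have h0 := FlatMorSection.sectionComponents_baseChange f s hs q π h sq s' (sq.lift_snd _ _ _) (sq.lift_fst _ _ _)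
  show _root_.IsPreconnected (π.base ⁻¹' MoreMor.sectionComponents f s)
  rw [← h0]
  suffices h1 : MoreMor.sectionComponents q s' = connectedComponentIn Set.univ (s' (closedPoint K)) by
    rw [h1]
    exact isPreconnected_connectedComponentIn
  ext w
  have hu : ∀ t : Spec (CommRingCat.of K), t = closedPoint K := fun t =>
    Subsingleton.elim (α := PrimeSpectrum K) _ _
  show w ∈ connectedComponentIn (q.base ⁻¹' {q w}) (s' (q w)) ↔ _
  rw [hu (q w), show q.base ⁻¹' {closedPoint K} = Set.univ from Set.eq_univ_of_forall fun t => hu (q t)]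

/-- Over a Noetherian base. -/
theorem exists_isProper_sectionComponents [IsLocallyNoetherian Y] (f : X ⟶ Y) [IsSeparated f]
    [LocallyOfFiniteType f] [QuasiCompact f] (s : Y ⟶ X) (hs : s ≫ f = 𝟙 Y)
    (hZ : Topology.IsLocallyConstructible (MoreMor.sectionComponents f s)) (y : Y)
    (V : (f.fiber y).Opens) (hV : (V : Set (f.fiber y)) = (f.fiberι y).base ⁻¹' MoreMor.sectionComponents f s)
    (hprop : IsProper (V.ι ≫ f.fiberToSpecResidueField y)) :
    ∃ U : Y.Opens, y ∈ U ∧ (∀ w ∈ closure (MoreMor.sectionComponents f s), f w ∈ U → w ∈ MoreMor.sectionComponents f s) ∧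
      IsProper (((Scheme.IdealSheafData.vanishingIdeal
        (⟨closure (MoreMor.sectionComponents f s), isClosed_closure⟩ : Closeds X)).subschemeι ≫ f) ∣_ U) := by
  have hop : IsOpen ((f.fiberι y).base ⁻¹' MoreMor.sectionComponents f s) := hV ▸ V.isOpen
  have hV' : V = ⟨_, hop⟩ := SetLike.coe_injective hV
  subst hV'
  refine ProperDvr.exists_isProper_of_connected y f _ hZ (fun y' _ => ⟨⟨s y', ?_, ?_, ?_⟩, ?_⟩) hop hprop ?_
  · exact mem_sectionComponents_of_mem f s (mem_comp_self f s hs y')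
  · exact apply_section f s hs y'
  · ext w
    constructor
    · rintro ⟨hw, rfl : f w = y'⟩
      exact hw
    · exact fun hw => ⟨mem_sectionComponents_of_mem f s hw, comp_subset f s y' hw⟩
  · intro K _ _
    exact isPreconnected_bcπ_preimage f s hs y' K
  · rintro Y' h E hE ⟨W, hW, hWE⟩
    let t := pullback.lift (h ≫ s) (𝟙 Y') (by rw [Category.assoc, hs, Category.comp_id, Category.id_comp]) 
    have ht : ∀ v, pullback.snd f h (t v) = v := fun v =>
      congrArg (fun φ : Y' ⟶ Y' => φ v) (pullback.lift_snd _ _ _ : t ≫ pullback.snd f h = 𝟙 Y')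
    have htZ : ∀ v, pullback.fst f h (t v) ∈ MoreMor.sectionComponents f s := fun v => by
      rw [show pullback.fst f h (t v) = s (h v) from
        congrArg (fun φ : Y' ⟶ X => φ v) (pullback.lift_fst _ _ _ : t ≫ pullback.fst f h = h ≫ s)]
      exact mem_sectionComponents_of_mem f s (mem_comp_self f s hs _)
    refine ⟨t.base ⁻¹' W, hW.preimage t.continuous, ?_⟩
    ext v
    constructor
    · rintro ⟨hv, -⟩
      have h1 := (hWE.le ⟨hv, htZ v⟩).1
      rwa [Set.mem_preimage, ht] at h1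
    · intro hv
      exact ⟨(hWE.ge ⟨show pullback.snd f h (t v) ∈ E by rw [ht]; exact hv, htZ v⟩).1, hE hv⟩

/-- EGA IV 15.7.11. -/
theorem exists_isProper_sectionComponents_fp (f : X ⟶ Y) [IsSeparated f] [LocallyOfFinitePresentation f]
    [QuasiCompact f] [QuasiSeparated f] (g : Y ⟶ X) (hg : g ≫ f = 𝟙 Y) (y : Y)
    (V : (f.fiber y).Opens) (hV : (V : Set (f.fiber y)) = (f.fiberι y).base ⁻¹' MoreMor.sectionComponents f g)
    (hprop : IsProper (V.ι ≫ f.fiberToSpecResidueField y)) :
    ∃ U : Y.Opens, y ∈ U ∧ ∃ hC : IsClosed ((f ⁻¹ᵁ U).ι.base ⁻¹' MoreMor.sectionComponents f g),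
      IsProper ((Scheme.IdealSheafData.vanishingIdeal
        (⟨(f ⁻¹ᵁ U).ι.base ⁻¹' MoreMor.sectionComponents f g, hC⟩ : Closeds ↥(f ⁻¹ᵁ U))).subschemeι ≫ (f ∣_ U)) := by
  obtain ⟨S, _, j, _, B, _, _, -, hyS, -, P, fP, sP, σ, a, hlfp, hqc, hqs, hsP, sq, hga, -, hsep⟩ :=
    exists_section_model f g hg y ⊤ trivial
  haveI := hlfp
  haveI := hqc
  haveI := hqs
  haveI := hsep inferInstance
  obtain ⟨p, rfl⟩ := hyS
  have hgS : sectionBC f g hg j ≫ pullback.snd f j = 𝟙 _ := sectionBC_snd f g hg j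
  have h0 := FlatMorSection.sectionComponents_baseChange f g hg (pullback.snd f j) (pullback.fst f j) j
    (IsPullback.of_hasPullback f j) (sectionBC f g hg j) hgS (sectionBC_fst f g hg j)
  have h1 := FlatMorSection.sectionComponents_baseChange fP sP hsP (pullback.snd f j) a σ sq (sectionBC f g hg j) hgS hga
  have hZ := FlatMorSection.isLocallyConstructible_sectionComponents fP sP hsP
  haveI : IsLocallyNoetherian P := LocallyOfFiniteType.isLocallyNoetherian fP
  haveI : CompactSpace P := QuasiCompact.compactSpace_of_compactSpace fP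
  haveI : IsNoetherian P := {}
  obtain ⟨V', hV', hiff⟩ := isProper_comp_baseChange_iff hg hgS (IsPullback.of_hasPullback f j)
    (sectionBC_fst f g hg j) p V hV
  have hVP : IsOpen ((fP.fiberι (σ p)).base ⁻¹' MoreMor.sectionComponents fP sP) := by
    rw [fiberι_preimage_sectionComponents]
    exact (ProperDvr.preimage_comp_clopen fP (σ p) (sP (σ p)) (apply_section fP sP hsP _)).2
  obtain ⟨V'', hV'', hiff'⟩ := isProper_comp_baseChange_iff hsP hgS sq hga p ⟨_, hVP⟩ rfl
  have hVV : V'' = V' := SetLike.coe_injective (hV''.trans hV'.symm)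
  subst hVV
  obtain ⟨U, hbU, hcl, hpr⟩ := exists_isProper_sectionComponents fP sP hsP hZ (σ p) ⟨_, hVP⟩ rfl
    (hiff'.1 (hiff.2 hprop))
  let C : Closeds P := ⟨closure (MoreMor.sectionComponents fP sP), isClosed_closure⟩
  let i := (Scheme.IdealSheafData.vanishingIdeal C).subschemeι
  have hi : Set.range i = (C : Set P) := by rw [Scheme.IdealSheafData.range_subschemeι]; rfl
  let UY : Y.Opens := j ''ᵁ (σ ⁻¹ᵁ U)
  have hUY : (UY : Set Y) ⊆ Set.range j := Set.image_subset_range _ _
  let lU : UY.toScheme ⟶ S := IsOpenImmersion.lift j UY.ι (by rw [UY.range_ι]; exact hUY)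
  have hlU : lU ≫ j = UY.ι := IsOpenImmersion.lift_fac _ _ _
  have hrW : Set.range (f ⁻¹ᵁ UY).ι ⊆ Set.range (pullback.fst f j) := by
    rw [Scheme.Opens.range_ι, Scheme.Pullback.range_fst]
    exact Set.preimage_mono hUY
  let l : (f ⁻¹ᵁ UY).toScheme ⟶ pullback f j := IsOpenImmersion.lift (pullback.fst f j) (f ⁻¹ᵁ UY).ι hrW
  have hl : l ≫ pullback.fst f j = (f ⁻¹ᵁ UY).ι := IsOpenImmersion.lift_fac _ _ _
  have sql : IsPullback l (f ∣_ UY) (pullback.snd f j) lU := by
    refine IsPullback.of_right ?_ ?_ (IsPullback.of_hasPullback f j)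
    · rw [hl, hlU]
      exact (isPullback_morphismRestrict f UY).flip
    · rw [← cancel_mono j, Category.assoc, Category.assoc, hlU, ← pullback.condition, reassoc_of% hl]
      exact (morphismRestrict_ι f UY).symm
  have sqW : IsPullback (l ≫ a) (f ∣_ UY) fP (lU ≫ σ) := sql.paste_horiz sq
  have hσU : ∀ w, σ (lU w) ∈ U := fun w => by
    obtain ⟨t, ht, htw⟩ := w.2
    have e : j (lU w) = j t := (congrArg (fun φ : UY.toScheme ⟶ Y => φ w) hlU).trans htw.symm
    rw [j.isOpenEmbedding.injective e]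
    exact ht
  let k : UY.toScheme ⟶ U.toScheme := IsOpenImmersion.lift U.ι (lU ≫ σ) (by
    rw [U.range_ι]; rintro _ ⟨w, rfl⟩; exact hσU w)
  have hk : k ≫ U.ι = lU ≫ σ := IsOpenImmersion.lift_fac _ _ _
  let D := pullback i (l ≫ a)
  let iD : D ⟶ (f ⁻¹ᵁ UY).toScheme := pullback.snd i (l ≫ a)
  haveI : IsClosedImmersion iD := MorphismProperty.pullback_snd (P := @IsClosedImmersion) _ _ inferInstance
  have sqD : IsPullback (pullback.fst i (l ≫ a)) (iD ≫ f ∣_ UY) (i ≫ fP) (k ≫ U.ι) :=
    hk.symm ▸ (IsPullback.of_hasPullback i (l ≫ a)).paste_vert sqW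
  have hDp : IsProper (iD ≫ f ∣_ UY) := by
    let c : D ⟶ ((i ≫ fP) ⁻¹ᵁ U).toScheme := IsOpenImmersion.lift ((i ≫ fP) ⁻¹ᵁ U).ι (pullback.fst i (l ≫ a)) (by
      rw [Scheme.Opens.range_ι]
      rintro _ ⟨d, rfl⟩
      show (i ≫ fP) (pullback.fst i (l ≫ a) d) ∈ U
      rw [show (i ≫ fP) (pullback.fst i (l ≫ a) d) = U.ι (k ((iD ≫ f ∣_ UY) d)) from
        congrArg (fun φ : D ⟶ Spec (CommRingCat.of B) => φ d) sqD.w]
      exact U.range_ι.le ⟨_, rfl⟩)
    refine MorphismProperty.of_isPullback (P := @IsProper) (f' := c) (f := k) ?_ hpr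
    refine IsPullback.of_right ?_ ?_ (isPullback_morphismRestrict (i ≫ fP) U).flip
    · rw [IsOpenImmersion.lift_fac]
      exact sqD
    · rw [← cancel_mono U.ι, Category.assoc, morphismRestrict_ι, ← Category.assoc, IsOpenImmersion.lift_fac,
        Category.assoc]
      exact sqD.w
  have hrD : Set.range iD = (f ⁻¹ᵁ UY).ι.base ⁻¹' MoreMor.sectionComponents f g := by
    rw [Scheme.Pullback.range_snd]
    ext w
    show (l ≫ a) w ∈ Set.range i ↔ _
    rw [hi]
    have e0 : pullback.fst f j (l w) = (f ⁻¹ᵁ UY).ι w :=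
      congrArg (fun φ : (f ⁻¹ᵁ UY).toScheme ⟶ X => φ w) hl
    have e1 : l w ∈ MoreMor.sectionComponents (pullback.snd f j) (sectionBC f g hg j) ↔
        (f ⁻¹ᵁ UY).ι w ∈ MoreMor.sectionComponents f g := by
      rw [h0, Set.mem_preimage, e0]
    show a (l w) ∈ closure _ ↔ (f ⁻¹ᵁ UY).ι w ∈ MoreMor.sectionComponents f g
    rw [← e1, h1]
    refine ⟨fun hw => hcl _ hw ?_, fun hw => subset_closure hw⟩
    rw [show fP (a (l w)) = σ (lU ((f ∣_ UY) w)) from
      congrArg (fun φ : (f ⁻¹ᵁ UY).toScheme ⟶ Spec (CommRingCat.of B) => φ w) sqW.w]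
    exact hσU _
  have hCl : IsClosed ((f ⁻¹ᵁ UY).ι.base ⁻¹' MoreMor.sectionComponents f g) :=
    hrD ▸ iD.isClosedEmbedding.isClosed_range
  exact ⟨UY, ⟨p, hbU, rfl⟩, hCl,
    isProper_reduced_of_closedImmersion (f ∣_ UY) iD ⟨_, hCl⟩ hrD hDp⟩

end Groth.Agent.EGA43.SectionComp
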